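import Cfsg.Agent.S0333
import Cfsg.Agent.S0324
import Cfsg.Agent.OddCyclic.ClaimC.SzIso

/-!
# Elements of odd prime order in the Suzuki groups are normalised by 2-elements

For every odd prime `p` dividing the order of `Sz(q)`, `q = 2^(2m+1)`, `m ≥ 1`, there are an element
`x` of order `p` and an involution `t` normalising `⟨x⟩` and not centralising `x`.
-/

set_option autoImplicit false

namespace Cfsg.Agent.H505.SzReal

open Subgroup Cfsg.Agent.LieExceptional

/-- In `Sz(q)` every odd prime divisor of the order has a subgroup of that order normalised and not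
centralised by an involution. -/
theorem exists_normalizing {F : Type*} [Field F] [Fintype F] {m : ℕ} (hm : 1 ≤ m)
    (hF : Fintype.card F = 2 ^ (2 * m + 1)) {p : ℕ} (hp : p.Prime) (hp2 : p ≠ 2)
    (hdvd : p ∣ Nat.card (Cfsg.Sz F m)) :
    ∃ x t : Cfsg.Sz F m, orderOf x = p ∧ t * t = 1 ∧ t * x * t⁻¹ ∈ zpowers x ∧ t * x ≠ x * t := by
  classical
  haveI : Fact p.Prime := ⟨hp⟩
  have hq : ∀ k, p ∣ 2 ^ k → False := fun k h =>
    hp2 ((Nat.prime_dvd_prime_iff_eq hp Nat.prime_two).mp (hp.dvd_of_dvd_pow h))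
  rw [Cfsg.Agent.S0324.result hm hF] at hdvd
  have hfin : Finite (Cfsg.Sz F m) := by
    apply Nat.finite_of_card_ne_zero
    rw [Cfsg.Agent.S0324.result hm hF]
    have h1 : 1 < 2 ^ (2 * m + 1) := Nat.one_lt_two_pow (by omega)
    have h2 : 0 < 2 ^ (2 * m + 1) - 1 := by omega
    positivity
  -- the case of the two cyclic tori
  have main : ∀ k ∈ ({2 ^ (2 * m + 1) + 2 ^ (m + 1) + 1, 2 ^ (2 * m + 1) - 2 ^ (m + 1) + 1} : Set ℕ),
      p ∣ k → Odd k → ∃ x t : Cfsg.Sz F m, orderOf x = p ∧ t * t = 1 ∧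
        t * x * t⁻¹ ∈ zpowers x ∧ t * x ≠ x * t := by
    intro k hk hpk hodd
    obtain ⟨U, hU, hUk, hUc, hUn⟩ := Cfsg.Agent.S0333.result hm hF k hk
    obtain ⟨⟨x, hxU⟩, hx⟩ := exists_prime_orderOf_dvd_card' (G := U) p (by rw [hUk]; exact hpk)
    have hx' : orderOf x = p := by rw [← hx]; exact (Subgroup.orderOf_mk x hxU).symm
    have hx1 : x ≠ 1 := by
      rintro rfl
      rw [orderOf_one] at hx'
      exact hp.one_lt.ne hx'
    haveI : Fact (Nat.Prime 2) := ⟨Nat.prime_two⟩
    obtain ⟨⟨t, htN⟩, ht⟩ := exists_prime_orderOf_dvd_card'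
      (G := Subgroup.normalizer (U : Set (Cfsg.Sz F m))) 2 (by rw [hUn]; omega)
    have ht' : orderOf t = 2 := by rw [← ht]; exact (Subgroup.orderOf_mk t htN).symm
    have htt : t * t = 1 := by rw [← pow_two, ← ht', pow_orderOf_eq_one]
    have hne : t * x ≠ x * t := by
      intro hcomm
      have h1 : t ∈ Subgroup.centralizer ({x} : Set (Cfsg.Sz F m)) := by
        rw [Subgroup.mem_centralizer_singleton_iff]; exact hcomm
      rw [hUc x hxU hx1] at h1
      have h2 : orderOf t ∣ Nat.card U := Subgroup.orderOf_dvd_natCard U h1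
      rw [ht', hUk] at h2
      exact (Nat.not_even_iff_odd.mpr hodd) (even_iff_two_dvd.mpr h2)
    have hconjU : t * x * t⁻¹ ∈ U := (Subgroup.mem_normalizer_iff.mp htN x).mp hxU
    refine ⟨x, t, hx', htt, ?_, hne⟩
    -- in a cyclic group there's one subgroup of order `p`
    have hoc : orderOf (t * x * t⁻¹) = p := by
      have : orderOf (MulAut.conj t x) = orderOf x := (MulAut.conj t).orderOf_eq x
      rw [MulAut.conj_apply] at this
      rw [this, hx']
    haveI := hU
    have hsub : ∀ y : U, orderOf y = p → y ∈ zpowers (⟨x, hxU⟩ : U) := by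
      intro y hy
      have hcard : (Finset.univ.filter fun a : U => a ^ p = 1).card ≤ p :=
        IsCyclic.card_pow_eq_one_le hp.pos
      have hle : (Finset.univ.filter fun a : U => a ∈ zpowers (⟨x, hxU⟩ : U)) =
          (Finset.univ.filter fun a : U => a ^ p = 1) := by
        apply Finset.eq_of_subset_of_card_le
        · intro a ha
          rw [Finset.mem_filter] at ha ⊢
          refine ⟨Finset.mem_univ _, ?_⟩
          obtain ⟨j, hj⟩ := mem_zpowers_iff.mp ha.2
          have h1 : (⟨x, hxU⟩ : U) ^ p = 1 := by rw [← hx, pow_orderOf_eq_one]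
          rw [← hj, ← zpow_natCast, ← zpow_mul, mul_comm, zpow_mul, zpow_natCast, h1, one_zpow]
        · refine hcard.trans ?_
          have h2 : Nat.card (zpowers (⟨x, hxU⟩ : U)) = p := by
            rw [Nat.card_zpowers, hx]
          rw [← Fintype.card_subtype, ← Nat.card_eq_fintype_card]
          exact le_of_eq h2.symm
      have hy2 : y ∈ (Finset.univ.filter fun a : U => a ^ p = 1) := by
        rw [Finset.mem_filter]
        exact ⟨Finset.mem_univ _, by rw [← hy, pow_orderOf_eq_one]⟩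
      rw [← hle, Finset.mem_filter] at hy2
      exact hy2.2
    have h3 := hsub ⟨t * x * t⁻¹, hconjU⟩ (by rw [Subgroup.orderOf_mk]; exact hoc)
    obtain ⟨j, hj⟩ := mem_zpowers_iff.mp h3
    refine mem_zpowers_iff.mpr ⟨j, ?_⟩
    have := congrArg (fun u : U => (u : Cfsg.Sz F m)) hj
    simpa using this
  rcases (hp.dvd_mul).mp hdvd with h | h
  · rcases (hp.dvd_mul).mp h with h | h
    · exact absurd (hp.dvd_of_dvd_pow h) (fun h' => hq _ h')
    · -- `q² + 1 = (q + r + 1)(q - r + 1)`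
      have hle : 2 ^ (m + 1) ≤ 2 ^ (2 * m + 1) := Nat.pow_le_pow_right (by norm_num) (by omega)
      have hfac : (2 ^ (2 * m + 1)) ^ 2 + 1 =
          (2 ^ (2 * m + 1) + 2 ^ (m + 1) + 1) * (2 ^ (2 * m + 1) - 2 ^ (m + 1) + 1) := by
        zify [hle]
        ring
      rw [hfac] at h
      have he1 : Even (2 ^ (2 * m + 1)) := (Nat.even_pow.2 ⟨even_two, by omega⟩)
      have he2 : Even (2 ^ (m + 1)) := (Nat.even_pow.2 ⟨even_two, by omega⟩)
      rcases (hp.dvd_mul).mp h with h | h
      · exact main _ (by simp) h (Even.add_one (he1.add he2))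
      · refine main _ (by simp) h ?_
        exact Even.add_one ((Nat.even_sub hle).mpr ⟨fun _ => he2, fun _ => he1⟩)
  · -- the split torus
    have hu : Nat.card Fˣ = 2 ^ (2 * m + 1) - 1 := by
      rw [Nat.card_units, Nat.card_eq_fintype_card, hF]
    obtain ⟨k, hk⟩ := exists_prime_orderOf_dvd_card' (G := Fˣ) p (by rw [hu]; exact h)
    let f : Fˣ →* Cfsg.Sz F m :=
      { toFun := fun k => ⟨SuzukiBasic.H m k, SuzukiBasic.H_mem hF k⟩
        map_one' := Subtype.ext (SuzukiBasic.H_one m)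
        map_mul' := fun a b => Subtype.ext (SuzukiBasic.H_mul m a b).symm }
    have hfinj : Function.Injective f := by
      intro a b hab
      have h1 : SuzukiBasic.H m a = SuzukiBasic.H m b := congrArg Subtype.val hab
      have h1' := congrArg (fun g : Matrix.SpecialLinearGroup (Fin 4) F => (g : Matrix (Fin 4) (Fin 4) F)) h1
      simp only [SuzukiBasic.H_coe] at h1'
      have h00 := congrFun (congrFun h1' 0) 0
      have h11 := congrFun (congrFun h1' 1) 1
      simp at h00 h11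
      rw [pow_succ, pow_succ, h11] at h00
      exact Units.ext (mul_left_cancel₀ (pow_ne_zero _ b.ne_zero) h00)
    refine ⟨f k, ⟨SuzukiBasic.W F, SuzukiBasic.W_mem hF⟩, ?_, ?_, ?_, ?_⟩
    · rw [orderOf_injective f hfinj, hk]
    · exact Subtype.ext SuzukiBasic.W_mul_W
    · have h1 : (⟨SuzukiBasic.W F, SuzukiBasic.W_mem hF⟩ : Cfsg.Sz F m) * f k *
          (⟨SuzukiBasic.W F, SuzukiBasic.W_mem hF⟩ : Cfsg.Sz F m)⁻¹ = (f k)⁻¹ := by
        rw [mul_inv_eq_iff_eq_mul, ← map_inv]
        exact Subtype.ext (SuzukiBasic.W_mul_H m k)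
      rw [h1]
      exact Subgroup.inv_mem _ (mem_zpowers _)
    · intro hcomm
      have h1 : (⟨SuzukiBasic.W F, SuzukiBasic.W_mem hF⟩ : Cfsg.Sz F m) * f k = f k⁻¹ *
          (⟨SuzukiBasic.W F, SuzukiBasic.W_mem hF⟩ : Cfsg.Sz F m) :=
        Subtype.ext (SuzukiBasic.W_mul_H m k)
      rw [h1] at hcomm
      have h2 := hfinj (mul_right_cancel hcomm)
      have h3 : k ^ 2 = 1 := by
        rw [pow_two]
        nth_rewrite 1 [← h2]
        exact inv_mul_cancel k
      have h4 := orderOf_dvd_of_pow_eq_one h3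
      rw [hk] at h4
      exact hp2 ((Nat.prime_dvd_prime_iff_eq hp Nat.prime_two).mp h4)

/-- The same for a group known to be isomorphic to a Suzuki group. -/
theorem exists_normalizing_of_iso {S : Type*} [Group S] (hS : Cfsg.Lie.IsoSuzuki S)
    {p : ℕ} (hp : p.Prime) (hp2 : p ≠ 2) (hdvd : p ∣ Nat.card S) :
    ∃ x t : S, orderOf x = p ∧ t * t = 1 ∧ t * x * t⁻¹ ∈ zpowers x ∧ t * x ≠ x * t := by
  obtain ⟨F, _, _, m, hm, hF, ⟨e⟩⟩ := hS
  obtain ⟨e'⟩ := Cfsg.Agent.OddCyclic.ClaimC.SzIso.iso hm hF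
  let φ : S ≃* Cfsg.Sz F m := e.trans e'.symm
  rw [Nat.card_congr φ.toEquiv] at hdvd
  obtain ⟨x, t, hx, ht, hn, hc⟩ := exists_normalizing hm hF hp hp2 hdvd
  refine ⟨φ.symm x, φ.symm t, ?_, ?_, ?_, ?_⟩
  · rw [MulEquiv.orderOf_eq, hx]
  · rw [← map_mul, ht, map_one]
  · obtain ⟨j, hj⟩ := mem_zpowers_iff.mp hn
    refine mem_zpowers_iff.mpr ⟨j, ?_⟩
    rw [← map_zpow, hj]; simp
  · intro h
    apply hc
    rw [← map_mul, ← map_mul] at h
    exact φ.symm.injective h

end Cfsg.Agent.H505.SzReal
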