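import Mathlib
import Cfsg.Agent.Solvable.Glauberman

/-!
# Fixed point free operator groups with a coprime normal subgroup and cyclic quotient: the fixed point lemma

`Cyc φ K` : `A` acts on `G` by `φ`, `C_G(A) = 1`, `K` is a normal subgroup of `A` of order prime to `|G|`, `A / K` is
cyclic. The lemma of Lang and Glauberman: if `G` is transitive on the finite set `Ω`, and `A` acts on `Ω` compatibly,
then `A` fixes exactly one point of `Ω` (`exists_fixed`, `fixed_unique`).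
-/

set_option autoImplicit false

namespace Cfsg.Agent.H505.FpfCyc

open Subgroup

universe u v w

/-- The internal form, existence. -/
theorem exists_smul_fixed {Γ : Type*} [Group Γ] [Finite Γ] {Ω : Type*} [MulAction Γ Ω] (X K A : Subgroup Γ) {h : Γ}
    (hAX : A ≤ normalizer (X : Set Γ)) (hKA : K ≤ A) (hAK : A ≤ normalizer (K : Set Γ)) (hh : h ∈ A)
    (hgen : A ≤ K ⊔ zpowers h) (hcop : (Nat.card K).Coprime (Nat.card X))
    (hsol : Group.IsSolvable K ∨ Group.IsSolvable X)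
    (hfpf : ∀ x ∈ X, (∀ a ∈ A, a * x * a⁻¹ = x) → x = 1) (ω : Ω)
    (hω : ∀ a ∈ A, ∃ x ∈ X, a • ω = x • ω) : ∃ x ∈ X, ∀ a ∈ A, a • x • ω = x • ω := by
  obtain ⟨x₀, hx₀, hfix⟩ := Solvable.Glauberman.exists_smul_fixed K X (hKA.trans hAX) hcop hsol ω
    (fun a ha => hω a (hKA ha))
  have hKh : ∀ k ∈ K, h⁻¹ * k * h ∈ K := by
    intro k hk
    have h1 := (mem_normalizer_iff.mp (hAK (inv_mem hh)) k).mp hk
    rwa [inv_inv] at h1
  have hKh' : ∀ k ∈ K, h * k * h⁻¹ ∈ K := fun k hk => (mem_normalizer_iff.mp (hAK hh) k).mp hk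
  have hXh : ∀ x ∈ X, h * x * h⁻¹ ∈ X := fun x hx => (mem_normalizer_iff.mp (hAX hh) x).mp hx
  -- `h • x₀ • ω` is fixed by `K`
  have h1 : ∀ k ∈ K, k • h • x₀ • ω = h • x₀ • ω := by
    intro k hk
    have e : k • h • x₀ • ω = h • (h⁻¹ * k * h) • x₀ • ω := by
      simp only [← mul_smul]; congr 1; group
    rw [e, hfix _ (hKh k hk)]
  obtain ⟨y, hy, hyω⟩ := hω h hh
  -- `h • x₀ • ω ∈ X • x₀ • ω`
  have h2 : (h * x₀ * h⁻¹ * y * x₀⁻¹) • x₀ • ω = h • x₀ • ω := by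
    rw [mul_smul, inv_smul_smul, mul_smul, ← hyω]
    simp only [← mul_smul]; congr 1; group
  obtain ⟨c, hcX, hcK, hc⟩ := Solvable.Glauberman.exists_centralizer_smul K X (hKA.trans hAX) hcop hsol
    (x₀ • ω) (h • x₀ • ω) hfix h1
    (mul_mem (mul_mem (hXh _ hx₀) hy) (inv_mem hx₀)) h2
  -- `C = C_X(K)`, `h` acts on it without fixed points
  set C : Subgroup Γ := X ⊓ centralizer (K : Set Γ) with hC
  have hCh : ∀ x ∈ C, h * x * h⁻¹ ∈ C := by
    intro x hx
    refine mem_inf.mpr ⟨hXh x (mem_inf.mp hx).1, ?_⟩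
    rw [mem_centralizer_iff]
    intro k hk
    have h3 := mem_centralizer_iff.mp hx.2 _ (hKh k hk)
    calc k * (h * x * h⁻¹) = h * (h⁻¹ * k * h * x) * h⁻¹ := by group
      _ = h * (x * (h⁻¹ * k * h)) * h⁻¹ := by rw [h3]
      _ = h * x * h⁻¹ * k := by group
  have hC1 : ∀ x ∈ C, h * x * h⁻¹ = x → x = 1 := by
    intro x hx hxh
    refine hfpf x hx.1 fun a ha => ?_
    have h3 : A ≤ centralizer ({x} : Set Γ) := by
      refine hgen.trans (sup_le ?_ ?_)
      · intro k hk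
        rw [mem_centralizer_singleton_iff]
        exact mem_centralizer_iff.mp hx.2 k hk
      · rw [zpowers_le, mem_centralizer_singleton_iff]
        calc h * x = h * x * h⁻¹ * h := by group
          _ = x * h := by rw [hxh]
    have h4 := mem_centralizer_singleton_iff.mp (h3 ha)
    rw [h4]; group
  let f : ↥C → ↥C := fun x => x⁻¹ * ⟨h * x * h⁻¹, hCh x x.2⟩
  have hf : Function.Injective f := by
    intro x y hxy
    have h3 : (x : Γ)⁻¹ * (h * x * h⁻¹) = (y : Γ)⁻¹ * (h * y * h⁻¹) := congrArg Subtype.val hxy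
    have h4 : (y * x⁻¹ : ↥C) = 1 := by
      refine Subtype.ext (hC1 _ (y * x⁻¹ : ↥C).2 ?_)
      have h5 : (y : Γ) * (x : Γ)⁻¹ = (h * y * h⁻¹) * (h * x * h⁻¹)⁻¹ := by
        have h6 : (y : Γ) * ((x : Γ)⁻¹ * (h * x * h⁻¹)) = h * y * h⁻¹ := by rw [h3]; group
        rw [← h6]; group
      calc h * ((y * x⁻¹ : ↥C) : Γ) * h⁻¹ = (h * y * h⁻¹) * (h * x * h⁻¹)⁻¹ := by
            rw [coe_mul, coe_inv]; group
        _ = y * (x : Γ)⁻¹ := h5.symm
    exact (mul_inv_eq_one.mp h4).symm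
  have hfs : Function.Surjective f := Finite.surjective_of_injective hf
  obtain ⟨z, hz⟩ := hfs ⟨c⁻¹, C.inv_mem ⟨hcX, hcK⟩⟩
  have hz' : (z : Γ)⁻¹ * (h * z * h⁻¹) = c⁻¹ := congrArg Subtype.val hz
  refine ⟨z * x₀, mul_mem z.2.1 hx₀, ?_⟩
  have h5 : A ≤ MulAction.stabilizer Γ ((z : Γ) • x₀ • ω) := by
    refine hgen.trans (sup_le ?_ ?_)
    · intro k hk
      rw [MulAction.mem_stabilizer_iff]
      have h6 := mem_centralizer_iff.mp z.2.2 k hk
      rw [← mul_smul, h6, mul_smul, hfix k hk]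
    · rw [zpowers_le, MulAction.mem_stabilizer_iff]
      have e : h • (z : Γ) • x₀ • ω = (h * z * h⁻¹) • h • x₀ • ω := by
        simp only [← mul_smul]; congr 1; group
      rw [e, ← hc]
      have h6 : h * z * h⁻¹ = z * c⁻¹ := by rw [← hz']; group
      rw [h6, mul_smul, inv_smul_smul]
  intro a ha
  have h6 := h5 ha
  rw [MulAction.mem_stabilizer_iff] at h6
  rw [mul_smul]
  exact h6

/-- The internal form, uniqueness. -/
theorem smul_eq_of_fixed {Γ : Type*} [Group Γ] [Finite Γ] {Ω : Type*} [MulAction Γ Ω] (X K A : Subgroup Γ) {h : Γ}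
    (hAX : A ≤ normalizer (X : Set Γ)) (hKA : K ≤ A) (hAK : A ≤ normalizer (K : Set Γ)) (hh : h ∈ A)
    (hgen : A ≤ K ⊔ zpowers h) (hcop : (Nat.card K).Coprime (Nat.card X))
    (hsol : Group.IsSolvable K ∨ Group.IsSolvable X)
    (hfpf : ∀ x ∈ X, (∀ a ∈ A, a * x * a⁻¹ = x) → x = 1) (ω : Ω)
    (hω : ∀ a ∈ A, a • ω = ω) {x : Γ} (hx : x ∈ X) (hxω : ∀ a ∈ A, a • x • ω = x • ω) : x • ω = ω := by
  obtain ⟨c, hcX, hcK, hc⟩ := Solvable.Glauberman.exists_centralizer_smul K X (hKA.trans hAX) hcop hsol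
    ω (x • ω) (fun a ha => hω a (hKA ha)) (fun a ha => hxω a (hKA ha)) hx rfl
  have hKh : ∀ k ∈ K, h⁻¹ * k * h ∈ K := by
    intro k hk
    have h1 := (mem_normalizer_iff.mp (hAK (inv_mem hh)) k).mp hk
    rwa [inv_inv] at h1
  have hXh : ∀ x ∈ X, h * x * h⁻¹ ∈ X := fun x hx => (mem_normalizer_iff.mp (hAX hh) x).mp hx
  set C : Subgroup Γ := X ⊓ centralizer (K : Set Γ) with hC
  have hCh : ∀ x ∈ C, h * x * h⁻¹ ∈ C := by
    intro x hx
    refine mem_inf.mpr ⟨hXh x (mem_inf.mp hx).1, ?_⟩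
    rw [mem_centralizer_iff]
    intro k hk
    have h3 := mem_centralizer_iff.mp hx.2 _ (hKh k hk)
    calc k * (h * x * h⁻¹) = h * (h⁻¹ * k * h * x) * h⁻¹ := by group
      _ = h * (x * (h⁻¹ * k * h)) * h⁻¹ := by rw [h3]
      _ = h * x * h⁻¹ * k := by group
  have hC1 : ∀ x ∈ C, h * x * h⁻¹ = x → x = 1 := by
    intro x hx hxh
    refine hfpf x hx.1 fun a ha => ?_
    have h3 : A ≤ centralizer ({x} : Set Γ) := by
      refine hgen.trans (sup_le ?_ ?_)
      · intro k hk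
        rw [mem_centralizer_singleton_iff]
        exact mem_centralizer_iff.mp hx.2 k hk
      · rw [zpowers_le, mem_centralizer_singleton_iff]
        calc h * x = h * x * h⁻¹ * h := by group
          _ = x * h := by rw [hxh]
    have h4 := mem_centralizer_singleton_iff.mp (h3 ha)
    rw [h4]; group
  -- `Y` the stabiliser of `ω` in `C`
  set Y : Subgroup Γ := C ⊓ MulAction.stabilizer Γ ω with hY
  have hhω : h⁻¹ • ω = ω := hω _ (inv_mem hh)
  have hhω' : h • ω = ω := hω _ hh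
  have hYh : ∀ x ∈ Y, h * x * h⁻¹ ∈ Y := by
    intro x hx
    refine mem_inf.mpr ⟨hCh x (mem_inf.mp hx).1, ?_⟩
    have h3 := (mem_inf.mp hx).2
    rw [MulAction.mem_stabilizer_iff] at h3 ⊢
    rw [mul_smul, mul_smul, hhω, h3, hhω']
  let f : ↥Y → ↥Y := fun x => x⁻¹ * ⟨h * x * h⁻¹, hYh x x.2⟩
  have hinj : ∀ x ∈ C, ∀ y ∈ C, x⁻¹ * (h * x * h⁻¹) = y⁻¹ * (h * y * h⁻¹) → x = y := by
    intro x hx y hy h3
    have h4 : y * x⁻¹ = 1 := by
      refine hC1 _ (mul_mem hy (inv_mem hx)) ?_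
      have h6 : y * (x⁻¹ * (h * x * h⁻¹)) = h * y * h⁻¹ := by rw [h3]; group
      calc h * (y * x⁻¹) * h⁻¹ = (h * y * h⁻¹) * (h * x * h⁻¹)⁻¹ := by group
        _ = y * (x⁻¹ * (h * x * h⁻¹)) * (h * x * h⁻¹)⁻¹ := by rw [h6]
        _ = y * x⁻¹ := by group
    exact (mul_inv_eq_one.mp h4).symm
  have hf : Function.Injective f := by
    intro x y hxy
    exact Subtype.ext (hinj x x.2.1 y y.2.1 (congrArg Subtype.val hxy))
  have hfs : Function.Surjective f := Finite.surjective_of_injective hf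
  have hcC : c ∈ C := ⟨hcX, hcK⟩
  have hcY : c⁻¹ * (h * c * h⁻¹) ∈ Y := by
    refine mem_inf.mpr ⟨mul_mem (inv_mem hcC) (hCh c hcC), ?_⟩
    rw [MulAction.mem_stabilizer_iff]
    have h3 : h • c • ω = c • ω := by rw [hc]; exact hxω h hh
    rw [mul_smul, mul_smul, mul_smul, hhω, h3, inv_smul_smul]
  obtain ⟨z, hz⟩ := hfs ⟨_, hcY⟩
  have hz' : (z : Γ)⁻¹ * (h * z * h⁻¹) = c⁻¹ * (h * c * h⁻¹) := congrArg Subtype.val hz
  have hzc : (z : Γ) = c := hinj z z.2.1 c hcC hz'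
  rw [← hc, ← hzc]
  exact MulAction.mem_stabilizer_iff.mp z.2.2

/-! ### The external form -/

variable {G : Type u} {A : Type v} [Group G] [Group A]

/-- `A` acts on `G` by `φ` with `C_G(A) = 1`; `K` is a normal subgroup of `A` of order prime to `|G|` and `A / K` is
cyclic. -/
structure Cyc (φ : A →* MulAut G) (K : Subgroup A) : Prop where
  normal : K.Normal
  cop : (Nat.card K).Coprime (Nat.card G)
  cyc : ∃ h : A, ∀ a : A, a ∈ K ⊔ zpowers h
  fpf : ∀ g : G, (∀ a : A, φ a g = g) → g = 1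

/-- the semidirect product acts -/
@[reducible] def actOf {φ : A →* MulAut G} {Ω : Type w} [MulAction G Ω] (θ : A → Ω → Ω) (θ_one : ∀ ω, θ 1 ω = ω)
    (θ_mul : ∀ a b ω, θ (a * b) ω = θ a (θ b ω)) (θ_smul : ∀ a (g : G) (ω : Ω), θ a (g • ω) = φ a g • θ a ω) :
    MulAction (G ⋊[φ] A) Ω where
  smul γ ω := γ.left • θ γ.right ω
  one_smul ω := by
    change (1 : G) • θ 1 ω = ω
    rw [θ_one, one_smul]
  mul_smul γ δ ω := by
    change (γ.left * φ γ.right δ.left) • θ (γ.right * δ.right) ω = γ.left • θ γ.right (δ.left • θ δ.right ω)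
    rw [θ_smul, θ_mul, mul_smul]

section

variable [Finite G] [Finite A] {φ : A →* MulAut G} {K : Subgroup A} {Ω : Type w} [MulAction G Ω]

theorem data (hC : Cyc φ K) :
    (SemidirectProduct.inr : A →* G ⋊[φ] A).range ≤
        normalizer ((SemidirectProduct.inl : G →* G ⋊[φ] A).range : Set (G ⋊[φ] A)) ∧
    K.map (SemidirectProduct.inr : A →* G ⋊[φ] A) ≤ (SemidirectProduct.inr : A →* G ⋊[φ] A).range ∧
    (SemidirectProduct.inr : A →* G ⋊[φ] A).range ≤
        normalizer (K.map (SemidirectProduct.inr : A →* G ⋊[φ] A) : Set (G ⋊[φ] A)) ∧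
    (∃ h ∈ (SemidirectProduct.inr : A →* G ⋊[φ] A).range, (SemidirectProduct.inr : A →* G ⋊[φ] A).range ≤
        K.map (SemidirectProduct.inr : A →* G ⋊[φ] A) ⊔ zpowers h) ∧
    (Nat.card ↥(K.map (SemidirectProduct.inr : A →* G ⋊[φ] A))).Coprime
        (Nat.card ↥(SemidirectProduct.inl : G →* G ⋊[φ] A).range) ∧
    (Group.IsSolvable K ∨ Group.IsSolvable G → Group.IsSolvable ↥(K.map (SemidirectProduct.inr : A →* G ⋊[φ] A)) ∨
        Group.IsSolvable ↥(SemidirectProduct.inl : G →* G ⋊[φ] A).range) ∧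
    (∀ x ∈ (SemidirectProduct.inl : G →* G ⋊[φ] A).range,
        (∀ a ∈ (SemidirectProduct.inr : A →* G ⋊[φ] A).range, a * x * a⁻¹ = x) → x = 1) := by
  refine ⟨?_, map_le_range _ _, ?_, ?_, ?_, ?_, ?_⟩
  · have h1 : (SemidirectProduct.inl : G →* G ⋊[φ] A).range.Normal := by
      rw [SemidirectProduct.range_inl_eq_ker_rightHom]
      infer_instance
    rw [normalizer_eq_top_iff.mpr h1]
    exact le_top
  · rintro _ ⟨a, rfl⟩
    rw [mem_normalizer_iff]
    intro x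
    have key : ∀ b : A, ∀ x, x ∈ K.map (SemidirectProduct.inr : A →* G ⋊[φ] A) →
        (SemidirectProduct.inr b : G ⋊[φ] A) * x * (SemidirectProduct.inr b)⁻¹ ∈
          K.map (SemidirectProduct.inr : A →* G ⋊[φ] A) := by
      rintro b _ ⟨k, hk, rfl⟩
      exact ⟨b * k * b⁻¹, hC.normal.conj_mem k hk b, by rw [map_mul, map_mul, map_inv]⟩
    refine ⟨key a x, fun hx => ?_⟩
    have h1 := key a⁻¹ _ hx
    rw [map_inv] at h1
    have e : ((SemidirectProduct.inr a : G ⋊[φ] A))⁻¹ *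
        ((SemidirectProduct.inr a : G ⋊[φ] A) * x * (SemidirectProduct.inr a)⁻¹) *
        ((SemidirectProduct.inr a : G ⋊[φ] A))⁻¹⁻¹ = x := by group
    rwa [e] at h1
  · obtain ⟨h, hh⟩ := hC.cyc
    refine ⟨SemidirectProduct.inr h, ⟨h, rfl⟩, ?_⟩
    rintro _ ⟨a, rfl⟩
    have h1 : (SemidirectProduct.inr a : G ⋊[φ] A) ∈
        (K ⊔ zpowers h).map (SemidirectProduct.inr : A →* G ⋊[φ] A) := ⟨a, hh a, rfl⟩
    rwa [Subgroup.map_sup, MonoidHom.map_zpowers] at h1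
  · have e1 : Nat.card ↥(K.map (SemidirectProduct.inr : A →* G ⋊[φ] A)) = Nat.card K :=
      Nat.card_congr (K.equivMapOfInjective _ SemidirectProduct.inr_injective).symm.toEquiv
    have e2 : Nat.card ↥(SemidirectProduct.inl : G →* G ⋊[φ] A).range = Nat.card G :=
      Nat.card_congr (MonoidHom.ofInjective (f := (SemidirectProduct.inl : G →* G ⋊[φ] A))
        SemidirectProduct.inl_injective).symm.toEquiv
    rw [e1, e2]
    exact hC.cop
  · rintro (h | h)
    · left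
      let e := (K.equivMapOfInjective (SemidirectProduct.inr : A →* G ⋊[φ] A)
        SemidirectProduct.inr_injective).symm
      exact Group.isSolvable_of_isSolvable_injective (f := e.toMonoidHom) e.injective
    · right
      let e := (MonoidHom.ofInjective (f := (SemidirectProduct.inl : G →* G ⋊[φ] A))
        SemidirectProduct.inl_injective).symm
      exact Group.isSolvable_of_isSolvable_injective (f := e.toMonoidHom) e.injective
  · rintro _ ⟨g, rfl⟩ hg
    have h1 : g = 1 := by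
      refine hC.fpf g fun a => ?_
      have h2 := hg _ ⟨a, rfl⟩
      rw [← map_inv, ← SemidirectProduct.inl_aut] at h2
      exact SemidirectProduct.inl_injective h2
    rw [h1, map_one]

/-- **The lemma of Lang and Glauberman**, existence of a fixed point. -/
theorem Cyc.exists_fixed (hC : Cyc φ K) (hsol : Group.IsSolvable K ∨ Group.IsSolvable G) (θ : A → Ω → Ω)
    (θ_one : ∀ ω, θ 1 ω = ω) (θ_mul : ∀ a b ω, θ (a * b) ω = θ a (θ b ω))
    (θ_smul : ∀ a (g : G) (ω : Ω), θ a (g • ω) = φ a g • θ a ω) (ω : Ω) (hω : ∀ a, ∃ g : G, θ a ω = g • ω) :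
    ∃ g : G, ∀ a, θ a (g • ω) = g • ω := by
  letI act := actOf (φ := φ) θ θ_one θ_mul θ_smul
  have hfin : Finite (G ⋊[φ] A) := Finite.of_equiv (G × A) SemidirectProduct.equivProd.symm
  obtain ⟨h1, h2, h3, ⟨h, h4, h5⟩, h6, h7, h8⟩ := data hC
  obtain ⟨x, ⟨g, rfl⟩, hg⟩ := exists_smul_fixed (Ω := Ω) (SemidirectProduct.inl : G →* G ⋊[φ] A).range
    (K.map (SemidirectProduct.inr : A →* G ⋊[φ] A)) (SemidirectProduct.inr : A →* G ⋊[φ] A).range h1 h2 h3 h4 h5
    h6 (h7 hsol) h8 ω (by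
      rintro _ ⟨a, rfl⟩
      obtain ⟨g, hg⟩ := hω a
      refine ⟨SemidirectProduct.inl g, ⟨g, rfl⟩, ?_⟩
      change (1 : G) • θ a ω = g • θ 1 ω
      rw [one_smul, θ_one, hg])
  refine ⟨g, fun a => ?_⟩
  have h9 := hg _ ⟨a, rfl⟩
  change (1 : G) • θ a (g • θ 1 ω) = g • θ 1 ω at h9
  rwa [one_smul, θ_one] at h9

/-- **The lemma of Lang and Glauberman**, uniqueness of the fixed point. -/
theorem Cyc.fixed_unique (hC : Cyc φ K) (hsol : Group.IsSolvable K ∨ Group.IsSolvable G) (θ : A → Ω → Ω)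
    (θ_one : ∀ ω, θ 1 ω = ω) (θ_mul : ∀ a b ω, θ (a * b) ω = θ a (θ b ω))
    (θ_smul : ∀ a (g : G) (ω : Ω), θ a (g • ω) = φ a g • θ a ω) (ω : Ω) (hω : ∀ a, θ a ω = ω) (g : G)
    (hg : ∀ a, θ a (g • ω) = g • ω) : g • ω = ω := by
  letI act := actOf (φ := φ) θ θ_one θ_mul θ_smul
  have hfin : Finite (G ⋊[φ] A) := Finite.of_equiv (G × A) SemidirectProduct.equivProd.symm
  obtain ⟨h1, h2, h3, ⟨h, h4, h5⟩, h6, h7, h8⟩ := data hC
  have e : (SemidirectProduct.inl g : G ⋊[φ] A) • ω = g • ω := by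
    change g • θ 1 ω = g • ω
    rw [θ_one]
  have key := smul_eq_of_fixed (Ω := Ω) (SemidirectProduct.inl : G →* G ⋊[φ] A).range
    (K.map (SemidirectProduct.inr : A →* G ⋊[φ] A)) (SemidirectProduct.inr : A →* G ⋊[φ] A).range h1 h2 h3 h4 h5
    h6 (h7 hsol) h8 ω (by
      rintro _ ⟨a, rfl⟩
      change (1 : G) • θ a ω = ω
      rw [one_smul, hω a]) (x := SemidirectProduct.inl g) ⟨g, rfl⟩ (by
      rintro _ ⟨a, rfl⟩
      rw [e]
      change (1 : G) • θ a (g • ω) = g • ω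
      rw [one_smul, hg a])
  rwa [e] at key

end

end Cfsg.Agent.H505.FpfCyc
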