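import Mathlib
import Cfsg.Agent.H505.FpfCyc
import Cfsg.Agent.Lib.SubnormalJoin
import Cfsg.Agent.S0205

/-!
# Fixed point free operator groups with a coprime normal subgroup and cyclic quotient: reduction to simple groups
-/

set_option autoImplicit false
set_option linter.unusedSectionVars false

namespace Cfsg.Agent.H505.FpfCyc

open Subgroup

universe u v w

variable {G : Type u} {A : Type v} [Group G] [Group A]

/-- `N` is `A`-invariant -/
def Inv (φ : A →* MulAut G) (N : Subgroup G) : Prop := ∀ a, ∀ x ∈ N, φ a x ∈ N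

theorem Inv.map_eq {φ : A →* MulAut G} {N : Subgroup G} (hN : Inv φ N) (a : A) :
    N.map (φ a).toMonoidHom = N := by
  apply le_antisymm
  · rintro _ ⟨x, hx, rfl⟩
    exact hN a x hx
  · intro x hx
    refine ⟨φ a⁻¹ x, hN a⁻¹ x hx, ?_⟩
    change φ a (φ a⁻¹ x) = x
    rw [← MulAut.mul_apply, ← map_mul, mul_inv_cancel, map_one, MulAut.one_apply]

/-- the restriction -/
def res (φ : A →* MulAut G) (N : Subgroup G) (hN : Inv φ N) : A →* MulAut N where
  toFun a :=
    { toFun := fun x => ⟨φ a x, hN a x x.2⟩
      invFun := fun x => ⟨φ a⁻¹ x, hN a⁻¹ x x.2⟩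
      left_inv := fun x => Subtype.ext (by
        change φ a⁻¹ (φ a x) = x
        rw [← MulAut.mul_apply, ← map_mul, inv_mul_cancel, map_one, MulAut.one_apply])
      right_inv := fun x => Subtype.ext (by
        change φ a (φ a⁻¹ x) = x
        rw [← MulAut.mul_apply, ← map_mul, mul_inv_cancel, map_one, MulAut.one_apply])
      map_mul' := fun x y => Subtype.ext (map_mul (φ a) (x : G) (y : G)) }
  map_one' := MulEquiv.ext fun x => Subtype.ext (by
    change φ 1 x = x
    rw [map_one, MulAut.one_apply])
  map_mul' a b := MulEquiv.ext fun x => Subtype.ext (by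
    change φ (a * b) x = φ a (φ b x)
    rw [map_mul, MulAut.mul_apply])

@[simp] theorem res_apply (φ : A →* MulAut G) (N : Subgroup G) (hN : Inv φ N) (a : A) (x : N) :
    ((res φ N hN a x : N) : G) = φ a x := rfl

theorem Cyc.res [Finite G] {φ : A →* MulAut G} {K : Subgroup A} (hC : Cyc φ K) (N : Subgroup G) (hN : Inv φ N) :
    Cyc (res φ N hN) K where
  normal := hC.normal
  cop := hC.cop.coprime_dvd_right (card_subgroup_dvd_card N)
  cyc := hC.cyc
  fpf := fun g hg => Subtype.ext (hC.fpf g fun a => congrArg Subtype.val (hg a))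

/-- the action on the quotient -/
noncomputable def quo (φ : A →* MulAut G) (N : Subgroup G) [N.Normal] (hN : Inv φ N) : A →* MulAut (G ⧸ N) where
  toFun a := QuotientGroup.congr N N (φ a) (hN.map_eq a)
  map_one' := MulEquiv.ext fun x => by
    induction x using QuotientGroup.induction_on with
    | H x =>
      change ((φ 1 x : G) : G ⧸ N) = x
      rw [map_one, MulAut.one_apply]
  map_mul' a b := MulEquiv.ext fun x => by
    induction x using QuotientGroup.induction_on with
    | H x =>
      change ((φ (a * b) x : G) : G ⧸ N) = ((φ a (φ b x) : G) : G ⧸ N)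
      rw [map_mul, MulAut.mul_apply]

theorem quo_mk (φ : A →* MulAut G) (N : Subgroup G) [N.Normal] (hN : Inv φ N) (a : A) (x : G) :
    quo φ N hN a (x : G ⧸ N) = ((φ a x : G) : G ⧸ N) := rfl

theorem Cyc.quo [Finite G] [Finite A] {φ : A →* MulAut G} {K : Subgroup A} (hC : Cyc φ K)
    (hsol : Group.IsSolvable K ∨ Group.IsSolvable G) (N : Subgroup G) [N.Normal]
    (hN : Inv φ N) : Cyc (quo φ N hN) K where
  normal := hC.normal
  cop := hC.cop.coprime_dvd_right (card_quotient_dvd_card N)
  cyc := hC.cyc
  fpf := by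
    intro g hg
    induction g using QuotientGroup.induction_on with
    | H g =>
      have h1 : ∀ a, ∃ n : N, φ a g = n • g := by
        intro a
        have h2 := hg a
        rw [quo_mk, eq_comm, QuotientGroup.eq] at h2
        have h3 := (inferInstance : N.Normal).conj_mem _ h2 g
        refine ⟨⟨_, h3⟩, ?_⟩
        change φ a g = g * (g⁻¹ * φ a g) * g⁻¹ * g
        group
      have hsol' : Group.IsSolvable K ∨ Group.IsSolvable N := by
        rcases hsol with h | h
        · exact Or.inl h
        · exact Or.inr (Group.isSolvable_of_isSolvable_injective (f := N.subtype) N.subtype_injective)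
      obtain ⟨n, hn⟩ := (hC.res N hN).exists_fixed (Ω := G) hsol' (fun a x => φ a x)
        (fun x => by rw [map_one, MulAut.one_apply])
        (fun a b x => by rw [map_mul, MulAut.mul_apply]) (fun a n x => map_mul (φ a) (n : G) x) g h1
      have h2 := hC.fpf _ hn
      rw [QuotientGroup.eq_one_iff]
      have h3 : (n : G) * g = 1 := h2
      have h4 : g = (n : G)⁻¹ := eq_inv_of_mul_eq_one_right h3
      rw [h4]
      exact inv_mem n.2

theorem Cyc.sol [Finite G] [Finite A] {φ : A →* MulAut G} {K : Subgroup A} (hC : Cyc φ K) :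
    Group.IsSolvable K ∨ Group.IsSolvable G := by
  rcases Nat.even_or_odd (Nat.card K) with h | h
  · right
    apply S0205.result
    rw [← Nat.not_even_iff_odd]
    intro h2
    have h3 := Nat.dvd_gcd h.two_dvd h2.two_dvd
    rw [hC.cop] at h3
    omega
  · exact Or.inl (S0205.result h)

/-- The case of a simple group is impossible. -/
def SimpleCase : Prop :=
  ∀ (S : Type u) [Group S] [Finite S] [IsSimpleGroup S] (A : Type v) [Group A] [Finite A] (φ : A →* MulAut S)
    (K : Subgroup A), ¬ IsMulCommutative S → Cyc φ K → False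

section Comp

variable [Finite G] [Finite A] (φ : A →* MulAut G) (M : Subgroup G)

theorem inv_iSup : Inv φ (⨆ a, M.map (φ a).toMonoidHom) := by
  intro b x hx
  have h1 : (⨆ a, M.map (φ a).toMonoidHom).map (φ b).toMonoidHom ≤ ⨆ a, M.map (φ a).toMonoidHom := by
    rw [Subgroup.map_iSup]
    refine iSup_le fun a => ?_
    have h2 : (M.map (φ a).toMonoidHom).map (φ b).toMonoidHom = M.map (φ (b * a)).toMonoidHom := by
      rw [map_map]
      congr 1
      ext x
      change φ b (φ a x) = φ (b * a) x
      rw [map_mul, MulAut.mul_apply]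
    rw [h2]
    exact le_iSup (fun a => M.map (φ a).toMonoidHom) (b * a)
  exact h1 ⟨x, hx, rfl⟩

theorem map_normal (hM : M.Normal) (a : A) : (M.map (φ a).toMonoidHom).Normal :=
  hM.map _ (φ a).surjective

theorem normal_iSup (hM : M.Normal) : (⨆ a, M.map (φ a).toMonoidHom).Normal := by
  constructor
  intro x hx g
  have h1 : (⨆ a, M.map (φ a).toMonoidHom).map (MulAut.conj g).toMonoidHom ≤ ⨆ a, M.map (φ a).toMonoidHom := by
    rw [Subgroup.map_iSup]
    refine iSup_le fun a => ?_
    refine le_trans ?_ (le_iSup (fun a => M.map (φ a).toMonoidHom) a)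
    rintro _ ⟨y, hy, rfl⟩
    exact (map_normal φ M hM a).conj_mem y hy g
  exact h1 ⟨x, hx, rfl⟩

/-- images are equal or meet trivially -/
theorem eq_or_inf (hM : M.Normal) (hmin : ∀ N : Subgroup G, N.Normal → N ≤ M → N = ⊥ ∨ N = M) (a : A) :
    M.map (φ a).toMonoidHom = M ∨ M.map (φ a).toMonoidHom ⊓ M = ⊥ := by
  have h1 := map_normal φ M hM a
  have h2 : (M.map (φ a).toMonoidHom ⊓ M).Normal := inferInstance
  rcases hmin _ h2 inf_le_right with h | h
  · exact Or.inr h
  · left
    have h3 : M ≤ M.map (φ a).toMonoidHom := inf_eq_right.mp h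
    refine (eq_of_le_of_card_ge h3 ?_).symm
    rw [card_map_of_injective (φ a).injective]

theorem comm_of_inf {N N' : Subgroup G} (hN : N.Normal) (hN' : N'.Normal) (h : N ⊓ N' = ⊥) :
    ∀ x ∈ N, ∀ y ∈ N', x * y = y * x := fun x hx y hy =>
  commute_of_normal_of_disjoint N N' hN hN' (disjoint_iff.mpr h) x y hx hy

/-- the stabiliser of `M` -/
def stab : Subgroup A where
  carrier := {a | M.map (φ a).toMonoidHom = M}
  one_mem' := by
    change M.map (φ 1).toMonoidHom = M
    rw [map_one]
    exact map_id M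
  mul_mem' := by
    intro a b ha hb
    change M.map (φ a).toMonoidHom = M at ha
    change M.map (φ b).toMonoidHom = M at hb
    change M.map (φ (a * b)).toMonoidHom = M
    have h2 : (M.map (φ b).toMonoidHom).map (φ a).toMonoidHom = M.map (φ (a * b)).toMonoidHom := by
      rw [map_map]
      congr 1
      ext x
      change φ a (φ b x) = φ (a * b) x
      rw [map_mul, MulAut.mul_apply]
    rw [← h2, hb, ha]
  inv_mem' := by
    intro a ha
    change M.map (φ a).toMonoidHom = M at ha
    change M.map (φ a⁻¹).toMonoidHom = M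
    have h2 : (M.map (φ a).toMonoidHom).map (φ a⁻¹).toMonoidHom = M := by
      rw [map_map]
      convert map_id M using 2
      ext x
      change φ a⁻¹ (φ a x) = x
      rw [← MulAut.mul_apply, ← map_mul, inv_mul_cancel, map_one, MulAut.one_apply]
    rw [ha] at h2
    exact h2

theorem inv_stab : Inv (φ.comp (stab φ M).subtype) M := by
  intro a x hx
  have h1 : M.map (φ a).toMonoidHom = M := a.2
  have h2 : φ a x ∈ M.map (φ a).toMonoidHom := ⟨x, hx, rfl⟩
  rwa [h1] at h2

theorem cyc_sub {K : Subgroup A} (hK : K.Normal) (hcyc : ∃ h : A, ∀ a : A, a ∈ K ⊔ zpowers h) (B : Subgroup A) :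
    ∃ h : B, ∀ a : B, a ∈ K.subgroupOf B ⊔ zpowers h := by
  obtain ⟨h, hh⟩ := hcyc
  have hc : IsCyclic (A ⧸ K) := by
    refine ⟨⟨(h : A ⧸ K), fun x => ?_⟩⟩
    induction x using QuotientGroup.induction_on with
    | H x =>
      have h1 : (QuotientGroup.mk' K x) ∈ (K ⊔ zpowers h).map (QuotientGroup.mk' K) := ⟨x, hh x, rfl⟩
      rw [Subgroup.map_sup, MonoidHom.map_zpowers] at h1
      have h2 : K.map (QuotientGroup.mk' K) = ⊥ := by
        rw [Subgroup.map_eq_bot_iff, QuotientGroup.ker_mk']
      rw [h2, bot_sup_eq] at h1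
      exact h1
  have hc2 : IsCyclic (B.map (QuotientGroup.mk' K)) := Subgroup.isCyclic _
  obtain ⟨⟨_, b, hb, rfl⟩, hgen⟩ := hc2.exists_generator
  refine ⟨⟨b, hb⟩, fun a => ?_⟩
  obtain ⟨n, hn⟩ := hgen ⟨QuotientGroup.mk' K a, ⟨a, a.2, rfl⟩⟩
  have hn' : (QuotientGroup.mk' K b) ^ n = QuotientGroup.mk' K a := congrArg Subtype.val hn
  rw [← map_zpow] at hn'
  have h3 : (b ^ n)⁻¹ * (a : A) ∈ K := by
    rw [← QuotientGroup.eq]
    exact hn'
  have h4 : a = (⟨b, hb⟩ : B) ^ n * (((⟨b, hb⟩ : B) ^ n)⁻¹ * a) := by group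
  rw [h4]
  refine mul_mem (mem_sup_right (zpow_mem (mem_zpowers _) n)) (mem_sup_left ?_)
  rw [mem_subgroupOf]
  exact h3

theorem cyc_stab {K : Subgroup A} (hC : Cyc φ K) (hM : M.Normal)
    (hmin : ∀ N : Subgroup G, N.Normal → N ≤ M → N = ⊥ ∨ N = M)
    (hZ : ∀ x ∈ M, (∀ y ∈ M, x * y = y * x) → x = 1) :
    Cyc (res (φ.comp (stab φ M).subtype) M (inv_stab φ M)) (K.subgroupOf (stab φ M)) where
  normal := hC.normal.subgroupOf _
  cop := by
    refine Nat.Coprime.coprime_dvd_left ?_ (hC.cop.coprime_dvd_right (card_subgroup_dvd_card M))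
    have h1 : Nat.card (K.subgroupOf (stab φ M)) = Nat.card ((K.subgroupOf (stab φ M)).map (stab φ M).subtype) :=
      (card_map_of_injective (stab φ M).subtype_injective).symm
    rw [h1]
    apply card_dvd_of_le
    rintro _ ⟨x, hx, rfl⟩
    exact hx
  cyc := cyc_sub hC.normal hC.cyc _
  fpf := by
    classical
    intro s hs
    have hs' : ∀ a ∈ stab φ M, φ a s = s := fun a ha => congrArg Subtype.val (hs ⟨a, ha⟩)
    -- the orbit of `s`
    have hfin : (Set.range fun a : A => φ a (s : G)).Finite := Set.finite_range _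
    set T : Finset G := hfin.toFinset with hT
    have hTmem : ∀ t, t ∈ T ↔ ∃ a : A, φ a (s : G) = t := by
      intro t
      rw [hT, Set.Finite.mem_toFinset]
      rfl
    -- other elements centralize `M`
    have hcen : ∀ a b : A, φ a (s : G) ≠ φ b (s : G) → ∀ y ∈ M, φ a (s : G) * φ b y = φ b y * φ a (s : G) := by
      intro a b hab y hy
      have h1 : φ (b⁻¹ * a) (s : G) ≠ s := by
        intro h2
        apply hab
        have h3 := congrArg (φ b) h2
        rwa [← MulAut.mul_apply, ← map_mul, mul_inv_cancel_left] at h3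
      have h2 : M.map (φ (b⁻¹ * a)).toMonoidHom ≠ M := fun h3 => h1 (hs' _ h3)
      have h3 := (eq_or_inf φ M hM hmin (b⁻¹ * a)).resolve_left h2
      have h4 := comm_of_inf (map_normal φ M hM _) hM h3 (φ (b⁻¹ * a) s) ⟨s, s.2, rfl⟩ y hy
      have h5 := congrArg (φ b) h4
      have h6 : φ b (φ (b⁻¹ * a) s) = φ a s := by
        rw [← MulAut.mul_apply, ← map_mul φ, mul_inv_cancel_left]
      rwa [map_mul (φ b), map_mul (φ b), h6] at h5
    have hcomm : {x | x ∈ T.val}.Pairwise Commute := by
      intro x hx y hy hxy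
      obtain ⟨a, rfl⟩ := (hTmem x).mp hx
      obtain ⟨b, rfl⟩ := (hTmem y).mp hy
      exact hcen a b hxy s s.2
    have hP : T.val.noncommProd hcomm = 1 := by
      refine hC.fpf _ fun b => ?_
      rw [Multiset.map_noncommProd]
      have himg : T.image (φ b) = T := by
        ext t
        rw [Finset.mem_image]
        constructor
        · rintro ⟨x, hx, rfl⟩
          obtain ⟨a, rfl⟩ := (hTmem x).mp hx
          exact (hTmem _).mpr ⟨b * a, by rw [map_mul, MulAut.mul_apply]⟩
        · intro ht
          obtain ⟨a, rfl⟩ := (hTmem t).mp ht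
          refine ⟨φ (b⁻¹ * a) s, (hTmem _).mpr ⟨_, rfl⟩, ?_⟩
          rw [← MulAut.mul_apply, ← map_mul, mul_inv_cancel_left]
      have himg' : T.val.map (φ b) = T.val := by
        rw [← Finset.image_val_of_injOn (φ b).injective.injOn, himg]
      congr 1
    have hs1 : (s : G) ∈ T.val := (hTmem _).mpr ⟨1, by rw [map_one, MulAut.one_apply]⟩
    refine Subtype.ext (hZ s s.2 fun y hy => ?_)
    have hcomm' : {x | x ∈ T.val.erase (s : G)}.Pairwise Commute :=
      fun _ hx _ hy hxy => hcomm (T.val.mem_of_mem_erase hx) (T.val.mem_of_mem_erase hy) hxy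
    have h1 := Multiset.mul_noncommProd_erase T.val hs1 hcomm hcomm'
    rw [hP] at h1
    have h2 : Commute y ((T.val.erase (s : G)).noncommProd hcomm') := by
      apply Multiset.noncommProd_commute
      intro x hx
      have h3 : x ≠ s := by
        rintro rfl
        exact (T.nodup.mem_erase_iff.mp hx).1 rfl
      obtain ⟨a, rfl⟩ := (hTmem x).mp (Multiset.mem_of_mem_erase hx)
      have h4 := hcen a 1 (by rw [map_one, MulAut.one_apply]; exact h3) y hy
      rw [map_one, MulAut.one_apply] at h4
      exact h4.symm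
    have h3 : (s : G) = ((T.val.erase (s : G)).noncommProd hcomm')⁻¹ := eq_inv_of_mul_eq_one_left h1
    rw [h3]
    exact (h2.inv_right).symm

end Comp

theorem solvable_of (hS : SimpleCase.{u, v}) : ∀ n : ℕ, ∀ (G : Type u) [Group G] [Finite G] (A : Type v) [Group A]
    [Finite A] (φ : A →* MulAut G) (K : Subgroup A), Nat.card G = n → Cyc φ K → Group.IsSolvable G := by
  intro n
  induction n using Nat.strong_induction_on with
  | _ n ih =>
  intro G _ _ A _ _ φ K hn hC
  by_contra hns
  have hmin : ∀ N : Subgroup G, N.Normal → Inv φ N → N = ⊥ ∨ N = ⊤ := by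
    intro N hN hI
    by_contra hcon
    rw [not_or] at hcon
    obtain ⟨h1, h2⟩ := hcon
    have h0 : Nat.card G = Nat.card (G ⧸ N) * Nat.card N := card_eq_card_quotient_mul_card_subgroup N
    have hN1 : 1 < Nat.card N := (one_lt_card_iff_ne_bot N).mpr h1
    have hQ1 : 1 < Nat.card (G ⧸ N) := by
      have h3 : N.index ≠ 1 := fun h => h2 (index_eq_one.mp h)
      have h4 : N.index ≠ 0 := index_ne_zero_of_finite
      have h5 : Nat.card (G ⧸ N) = N.index := rfl
      omega
    have h3 : Nat.card N < n := by rw [← hn, h0]; nlinarith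
    have h4 : Nat.card (G ⧸ N) < n := by rw [← hn, h0]; nlinarith
    have s1 := ih _ h3 N A (res φ N hI) K rfl (hC.res N hI)
    have s2 := ih _ h4 (G ⧸ N) A (quo φ N hI) K rfl (hC.quo hC.sol N hI)
    exact hns ((Group.isSolvable_iff_subgroup_quotient N).mpr ⟨s1, s2⟩)
  have hnt : Nontrivial G := by
    by_contra h
    rw [not_nontrivial_iff_subsingleton] at h
    exact hns (Group.isSolvable_of_comm fun x y => Subsingleton.elim _ _)
  obtain ⟨M, hMn, hM1, hMmin⟩ := Lib.SubnormalJoin.exists_minimal_normal G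
  have htop : (⨆ a, M.map (φ a).toMonoidHom) = ⊤ := by
    rcases hmin _ (normal_iSup φ M hMn) (inv_iSup φ M) with h | h
    · exfalso
      apply hM1
      rw [eq_bot_iff, ← h]
      refine le_trans ?_ (le_iSup (fun a => M.map (φ a).toMonoidHom) 1)
      intro x hx
      exact ⟨x, hx, by rw [map_one]; rfl⟩
    · exact h
  have hMna : ¬ ∀ x ∈ M, ∀ y ∈ M, x * y = y * x := by
    intro hab
    have h1 : (⨆ a, M.map (φ a).toMonoidHom) ≤ centralizer (M : Set G) := by
      refine iSup_le fun a => ?_
      intro x hx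
      rw [mem_centralizer_iff]
      intro y hy
      rcases eq_or_inf φ M hMn hMmin a with h | h
      · rw [h] at hx
        exact hab y hy x hx
      · exact (comm_of_inf (map_normal φ M hMn a) hMn h x hx y hy).symm
    rw [htop] at h1
    have h2 : M ≤ center G := by
      intro x hx
      rw [mem_center_iff]
      intro g
      exact (mem_centralizer_iff.mp (h1 (mem_top g)) x hx).symm
    have h3 : Inv φ (center G) := by
      intro a x hx
      rw [mem_center_iff] at hx ⊢
      intro g
      obtain ⟨g, rfl⟩ := (φ a).surjective g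
      rw [← map_mul, hx g, map_mul]
    rcases hmin (center G) inferInstance h3 with h | h
    · rw [h, le_bot_iff] at h2
      exact hM1 h2
    · apply hns
      refine Group.isSolvable_of_comm fun x y => ?_
      have h4 : y ∈ center G := by rw [h]; trivial
      exact mem_center_iff.mp h4 x
  have hcomm : ∀ a, M.map (φ a).toMonoidHom = M ∨ ∀ x ∈ M.map (φ a).toMonoidHom, ∀ y ∈ M, x * y = y * x := by
    intro a
    rcases eq_or_inf φ M hMn hMmin a with h | h
    · exact Or.inl h
    · exact Or.inr (comm_of_inf (map_normal φ M hMn a) hMn h)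
  have hMnt : Nontrivial M := (nontrivial_iff_ne_bot M).mpr hM1
  have hsimple : IsSimpleGroup M := by
    refine ⟨fun N hN => ?_⟩
    have h1 : (⨆ a, M.map (φ a).toMonoidHom) ≤ normalizer ((N.map M.subtype : Subgroup G) : Set G) := by
      refine iSup_le fun a => ?_
      rcases hcomm a with h | h
      · rw [h]
        intro x hx
        have key : ∀ z ∈ M, ∀ y ∈ N.map M.subtype, z * y * z⁻¹ ∈ N.map M.subtype := by
          rintro z hz _ ⟨y, hy, rfl⟩
          exact ⟨⟨z, hz⟩ * y * (⟨z, hz⟩)⁻¹, hN.conj_mem y hy ⟨z, hz⟩, rfl⟩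
        rw [mem_normalizer_iff]
        intro y
        refine ⟨key x hx y, fun hy => ?_⟩
        have h2 := key x⁻¹ (inv_mem hx) _ hy
        have e : x⁻¹ * (x * y * x⁻¹) * x⁻¹⁻¹ = y := by group
        rwa [e] at h2
      · intro x hx
        rw [mem_normalizer_iff]
        intro y
        constructor
        · intro hy
          have hyM : y ∈ M := map_subtype_le N hy
          have e : x * y * x⁻¹ = y := by rw [h x hx y hyM]; group
          rwa [e]
        · intro hy
          have hyM : x * y * x⁻¹ ∈ M := map_subtype_le N hy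
          have e : y = x * y * x⁻¹ := by
            have h3 := h x⁻¹ (inv_mem hx) _ hyM
            calc y = x⁻¹ * (x * y * x⁻¹) * x := by group
              _ = (x * y * x⁻¹) * x⁻¹ * x := by rw [h3]
              _ = x * y * x⁻¹ := by group
          rw [e]; exact hy
    rw [htop, top_le_iff] at h1
    have h2 : (N.map M.subtype).Normal := normalizer_eq_top_iff.mp h1
    rcases hMmin _ h2 (map_subtype_le N) with h | h
    · left
      exact (map_eq_bot_iff_of_injective N M.subtype_injective).mp h
    · right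
      rw [eq_top_iff]
      intro x _
      have h3 : (x : G) ∈ N.map M.subtype := by rw [h]; exact x.2
      obtain ⟨y, hy, hxy⟩ := h3
      have h4 : y = x := Subtype.ext hxy
      rwa [← h4]
  have hna : ¬ IsMulCommutative M := by
    intro h
    apply hMna
    intro x hx y hy
    exact congrArg Subtype.val (h.is_comm.comm (⟨x, hx⟩ : M) ⟨y, hy⟩)
  have hZ : ∀ x ∈ M, (∀ y ∈ M, x * y = y * x) → x = 1 := by
    intro x hx hxy
    rcases hsimple.eq_bot_or_eq_top_of_normal (center M) inferInstance with h | h
    · have h1 : (⟨x, hx⟩ : M) ∈ center M := by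
        rw [mem_center_iff]
        intro y
        exact Subtype.ext (hxy y y.2).symm
      rw [h, mem_bot] at h1
      exact congrArg Subtype.val h1
    · exfalso
      apply hMna
      intro x hx y hy
      have h1 : (⟨y, hy⟩ : M) ∈ center M := by rw [h]; trivial
      exact congrArg Subtype.val (mem_center_iff.mp h1 ⟨x, hx⟩)
  exact hS M (stab φ M) _ _ hna (cyc_stab φ M hC hMn hMmin hZ)

end Cfsg.Agent.H505.FpfCyc
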