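import Mathlib
import Cfsg.Agent.H505.FpfCycRed
import Cfsg.Agent.Mrg.Omega.ML.LieRow.Bld
import Cfsg.Agent.S0320

/-!
# Fixed point free operator groups with a coprime normal subgroup and cyclic quotient: split (B,N)-pairs

A group with a split (B,N)-pair has no operator group as in `Cyc`: the operator group acts on the building, fixes a
pair of opposite chambers and only one chamber.
-/

set_option autoImplicit false
set_option linter.unusedSectionVars false

namespace Cfsg.Agent.H505.FpfCyc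

open Cfsg.Agent.Tits.Core Cfsg.Agent.Tits.Core.Bldg Cfsg.Agent.Tits.Exchange Cfsg.Agent.Tits
open Cfsg.Agent.FixBN Cfsg.Agent.FixBN.Cox Cfsg.Agent.UGT.U2.FOne Cfsg.Agent.Omega.ML.LieRow

section

variable {I : Type*} {M : CoxeterMatrix I} {W : Type*} [Group W] {cs : CoxeterSystem M W} {C : Type*}
  {Δ : Bldg cs C} {G : Type*} [Group G] [MulAction G C] {p : ℕ}

theorem mv_w0 [F : OppRes.Cox cs] (t : Mv Δ G) : t.φ (w0 cs) = w0 cs := by
  obtain ⟨w, hw⟩ := t.φ.surjective (w0 cs)
  have h1 : cs.length (t.φ w) ≤ cs.length w := length_map_le t.φ_simple w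
  have h2 := F.len_w0_mul w
  rw [hw] at h1
  have h3 : cs.length (w0 cs * w) = 0 := by omega
  have h4 : w0 cs * w = 1 := cs.length_eq_zero_iff.1 h3
  have h5 : w = w0 cs := by
    rw [eq_inv_of_mul_eq_one_right h4, F.w0_inv]
  rw [h5] at hw
  exact hw

theorem w0_ne_one [F : OppRes.Cox cs] [hI : Nonempty I] : w0 cs ≠ 1 := by
  intro h
  obtain ⟨i⟩ := hI
  have h1 := F.len_w0_mul (cs.simple i)
  rw [h, cs.length_one, cs.length_simple] at h1
  omega

theorem false_of_bld [Finite G] [Nonempty I] [Finite C] [hne : Nonempty C] (S : Sys Δ G p) [F : OppRes.Cox cs]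
    (hth : Δ.Thick) (hmv : ∀ τ : G ≃* G, ∃ t : Mv Δ G, t.τ = τ) {A : Type*} [Group A] [Finite A] {ψ : A →* MulAut G}
    {N : Subgroup A} (hC : Cyc ψ N) : False := by
  choose t ht using fun a : A => hmv (ψ a)
  have θ_one : ∀ x, (t 1).θ x = x := by
    intro x
    have h1 := Mv.θ_eq S hth (t := t 1) (t' := Mv.inner S 1) (by
      intro g
      change (t 1).τ g = 1 * g * 1⁻¹
      rw [ht, map_one]
      change g = 1 * g * 1⁻¹
      group) x
    rw [h1]
    exact one_smul G x
  have θ_mul : ∀ a b x, (t (a * b)).θ x = (t a).θ ((t b).θ x) := by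
    intro a b x
    refine Mv.θ_eq S hth (t := t (a * b)) (t' := Mv.comp (t a) (t b)) ?_ x
    intro g
    change (t (a * b)).τ g = (t a).τ ((t b).τ g)
    rw [ht, ht, ht, map_mul]
    rfl
  have θ_smul : ∀ a (g : G) x, (t a).θ (g • x) = ψ a g • (t a).θ x := by
    intro a g x
    rw [(t a).θ_smul, ht]
  obtain ⟨c⟩ := hne
  obtain ⟨d, hd⟩ := Δ.exists_δ c (w0 cs)
  have key : ∀ a, ∃ g : G, ((t a).θ c, (t a).θ d) = g • (c, d) := by
    intro a
    obtain ⟨g, hg⟩ := exists_smul_top S hth c ((t a).θ c)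
    have h1 : Δ.Opp ((t a).θ c) (g • d) := by
      unfold Bldg.Opp
      rw [← hg, S.iso, hd]
    have h2 : Δ.Opp ((t a).θ c) ((t a).θ d) := by
      unfold Bldg.Opp
      rw [(t a).δ_θ, hd, mv_w0]
    obtain ⟨u, hu, hud⟩ := S.trans _ _ _ h1 h2
    refine ⟨u * g, ?_⟩
    rw [Prod.smul_mk, mul_smul, mul_smul, hud, hg, S.fix _ u hu]
  obtain ⟨g, hg⟩ := hC.exists_fixed (Ω := C × C) hC.sol (fun a ω => ((t a).θ ω.1, (t a).θ ω.2))
    (fun ω => by rw [θ_one, θ_one]) (fun a b ω => by rw [θ_mul, θ_mul])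
    (fun a g ω => by
      change ((t a).θ (g • ω.1), (t a).θ (g • ω.2)) = _
      rw [θ_smul, θ_smul]
      rfl) (c, d) key
  have hg1 : ∀ a, (t a).θ (g • c) = g • c := fun a => congrArg Prod.fst (hg a)
  have hg2 : ∀ a, (t a).θ (g • d) = g • d := fun a => congrArg Prod.snd (hg a)
  obtain ⟨k, hk⟩ := exists_smul_top S hth (g • c) (g • d)
  have h1 := hC.fixed_unique (Ω := C) hC.sol (fun a => (t a).θ) θ_one θ_mul θ_smul (g • c) hg1 k (by
    intro a
    rw [hk]
    exact hg2 a)
  rw [hk] at h1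
  have h2 : d = c := MulAction.injective g h1
  rw [h2, Δ.δ_self] at hd
  exact w0_ne_one hd.symm

end

/-- a group with a split (B,N)-pair has no operator group as in `Cyc` -/
theorem false_of_hasSplit {G : Type*} [Group G] [Finite G] {p : ℕ} [hp : Fact p.Prime] (h : HasSplit p G)
    {A : Type*} [Group A] [Finite A] {ψ : A →* MulAut G} {N : Subgroup A} (hC : Cyc ψ N) : False := by
  obtain ⟨P, U, hne, h⟩ := h
  have hN : ((P.B ⊓ P.N).subgroupOf P.N).Normal := Tits.OfBN.normal_subgroupOf P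
  obtain ⟨M, cs, hcs⟩ := S0320.result P
  have hI : Finite P.S := FixBN.OfBN.finite_I (Equiv.refl P.S)
  have hIn : Nonempty P.S := hne.to_subtype
  have S := FixBN.OfBN.sys (Equiv.refl P.S) cs hcs h
  have hth := Tits.OfBN.thick P (Equiv.refl P.S) cs hcs
  exact false_of_bld S hth (fun τ => exists_mv h (Equiv.refl P.S) cs hcs τ) hC

end Cfsg.Agent.H505.FpfCyc
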