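import Mathlib
import Cfsg.Agent.H505.FpfCycRed
import Cfsg.Agent.BpSpor.Inn.Base

/-!
# Fixed point free operator groups with a coprime normal subgroup and cyclic quotient: no outer automorphisms of odd order

`Cyc.eq_one_of_conj` : no operator acts as a nontrivial inner automorphism; so, if all automorphisms of odd prime order
of the simple group `G` are inner, the operator group acts as a 2-group and has nontrivial fixed points.
-/

set_option autoImplicit false
set_option linter.unusedSectionVars false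

namespace Cfsg.Agent.H505.FpfCyc

open Subgroup

variable {G A : Type*} [Group G] [Group A] [Finite G] [Finite A] {φ : A →* MulAut G} {K : Subgroup A}

/-- No operator acts as a nontrivial inner automorphism (`Z(G) = 1`). -/
theorem Cyc.eq_one_of_conj (hC : Cyc φ K) (hZ : center G = ⊥) {a : A} {g : G} (ha : φ a = MulAut.conj g) : g = 1 := by
  have hinj : ∀ u : G, MulAut.conj u = 1 → u = 1 := by
    intro u hu
    have h1 : u ∈ center G := by
      rw [mem_center_iff]
      intro x
      have h2 : u * x * u⁻¹ = x := DFunLike.congr_fun hu x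
      calc x * u = (u * x * u⁻¹) * u := by rw [h2]
        _ = u * x := by group
    rwa [hZ, mem_bot] at h1
  have hK := hC.normal
  -- `A / K` is abelian
  have hab : ∀ x y : A, x * y * x⁻¹ * y⁻¹ ∈ K := by
    obtain ⟨h, hh⟩ := hC.cyc
    have h1 : ∀ x : A, ∃ n : ℤ, (x : A ⧸ K) = (h : A ⧸ K) ^ n := by
      intro x
      have h2 : (QuotientGroup.mk' K x) ∈ (K ⊔ zpowers h).map (QuotientGroup.mk' K) := ⟨x, hh x, rfl⟩
      rw [Subgroup.map_sup, MonoidHom.map_zpowers] at h2
      have h3 : K.map (QuotientGroup.mk' K) = ⊥ := by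
        rw [Subgroup.map_eq_bot_iff, QuotientGroup.ker_mk']
      rw [h3, bot_sup_eq] at h2
      obtain ⟨n, hn⟩ := mem_zpowers_iff.mp h2
      exact ⟨n, hn.symm⟩
    intro x y
    rw [← QuotientGroup.eq_one_iff]
    obtain ⟨m, hm⟩ := h1 x
    obtain ⟨n, hn⟩ := h1 y
    change (x : A ⧸ K) * y * (x : A ⧸ K)⁻¹ * (y : A ⧸ K)⁻¹ = 1
    rw [hm, hn]
    group
  refine hC.fpf g fun b => ?_
  have h1 : MulAut.conj (φ b g * g⁻¹) = φ (b * a * b⁻¹ * a⁻¹) := by
    have h2 : MulAut.conj (φ b g) = φ b * MulAut.conj g * (φ b)⁻¹ := by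
      ext x
      change φ b g * x * (φ b g)⁻¹ = φ b (g * (φ b).symm x * g⁻¹)
      rw [map_mul, map_mul, map_inv, MulEquiv.apply_symm_apply]
    rw [map_mul, map_inv, h2, ← ha, ← map_inv, ← map_inv, ← map_mul, ← map_mul, ← map_mul]
  have h3 : (φ b g * g⁻¹) ^ Nat.card K = 1 := by
    apply hinj
    rw [map_pow, h1, ← map_pow]
    have h4 : (b * a * b⁻¹ * a⁻¹) ^ Nat.card K = 1 := by
      have h5 : (⟨_, hab b a⟩ : K) ^ Nat.card K = 1 := pow_card_eq_one'
      exact congrArg Subtype.val h5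
    rw [h4, map_one]
  have h4 : φ b g * g⁻¹ = 1 := by
    rw [← orderOf_eq_one_iff]
    exact Nat.eq_one_of_dvd_coprimes hC.cop (orderOf_dvd_of_pow_eq_one h3) (orderOf_dvd_natCard _)
  exact mul_inv_eq_one.mp h4

/-- The case of a simple group whose automorphisms of odd prime order are inner. -/
theorem Cyc.false_of_oddInn [hs : IsSimpleGroup G] (hna : ¬ IsMulCommutative G) (hI : BpSpor.Inn.OddInn G)
    (hC : Cyc φ K) : False := by
  have hZ : center G = ⊥ := CpAut.center_eq_bot_of_simple hna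
  have h2 : IsPGroup 2 φ.range := by
    refine IsPGroup.of_card (Nat.eq_prime_pow_of_unique_prime_dvd Nat.card_pos.ne' fun {q} hq hqd => ?_)
    by_contra hq2
    have : Fact q.Prime := ⟨hq⟩
    obtain ⟨⟨_, a, rfl⟩, hx⟩ := exists_prime_orderOf_dvd_card' q hqd
    have hx' : orderOf (φ a) = q := by
      rw [← hx]
      exact (Subgroup.orderOf_coe (⟨φ a, ⟨a, rfl⟩⟩ : φ.range))
    obtain ⟨g, hg⟩ := hI q hq hq2 (φ a) hx'
    have h3 := hC.eq_one_of_conj hZ hg
    rw [hg, h3, map_one, orderOf_one] at hx'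
    exact hq.one_lt.ne hx'
  have heven : 2 ∣ Nat.card G := by
    by_contra h
    have h3 : Odd (Nat.card G) := by
      rw [← Nat.not_even_iff_odd, even_iff_two_dvd]
      exact h
    have h4 := S0205.result h3
    apply hna
    exact ⟨⟨IsSimpleGroup.comm_iff_isSolvable.mpr h4⟩⟩
  have : Fact (Nat.Prime 2) := ⟨Nat.prime_two⟩
  obtain ⟨b, hb, hb1⟩ := h2.exists_fixed_point_of_prime_dvd_card_of_fixed_point G heven (a := 1) (by
    rintro ⟨_, a, rfl⟩
    exact map_one (φ a))
  exact hb1 (hC.fpf b fun a => hb ⟨φ a, ⟨a, rfl⟩⟩).symm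

end Cfsg.Agent.H505.FpfCyc
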