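import Mathlib
import Cfsg.Agent.H505.FpfCycBld
import Cfsg.Agent.H505.FpfCycInn
import Cfsg.Agent.H505.OddInn
import Cfsg.Agent.Mrg.Omega.ML.LieRow.Lie
import Cfsg.Agent.OddHalf.Known
import Cfsg.Agent.S0254
import Cfsg.Agent.S0000

/-!
# Fixed point free operator groups with a coprime normal subgroup and cyclic quotient: the theorem

`hasSplit_of_lie` : the simple groups of Lie type (any characteristic, Suzuki and Ree groups included) have a split
(B,N)-pair. `solvable` : if `Cyc φ K` then `G` is solvable (uses the classification).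
-/

set_option autoImplicit false

namespace Cfsg.Agent.H505.FpfCyc

open Cfsg Cfsg.Agent.FixBN

universe u v

/-- Every simple group of Lie type of characteristic `p` has a split (B,N)-pair of characteristic `p`. -/
theorem hasSplit_of_lie {p : ℕ} (hp : p.Prime) {G : Type*} [Group G] [IsSimpleGroup G] (h : IsLieTypeChar p G) :
    HasSplit p G := by
  rcases Nodes.RGDLie.hasRGD_of_lie h with h1 | ⟨rfl, h1⟩ | ⟨rfl, h1⟩ | ⟨rfl, h1⟩
  · exact Omega.ML.LieRow.hasSplit_of_rgd hp h1
  · exact Omega.ML.LieRow.SzSplit.hasSplit_of_isoSuzuki h1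
  · obtain ⟨K, i1, i2, m, hm, hK, ⟨e⟩⟩ := h1
    obtain ⟨Q, UE, s, t, hp, -⟩ := ParSys.Fam.TwoFFour.exists_all hm hK
    refine Transport.hasSplit_congr e.symm ⟨Q, UE, ⟨s, ?_⟩, hp.split⟩
    rw [hp.S]
    exact Set.mem_insert _ _
  · exact ReeSplit.hasSplit_of_isoRee h1

/-- `A_6` is of Lie type in characteristic 3. -/
theorem isLieTypeChar_six {G : Type*} [Group G] (e : G ≃* ↥(alternatingGroup (Fin 6))) : IsLieTypeChar 3 G := by
  have : Fact (Nat.Prime 3) := ⟨Nat.prime_three⟩
  have : Fintype (GaloisField 3 2) := Fintype.ofFinite _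
  have hc : Fintype.card (GaloisField 3 2) = 9 := by
    rw [← Nat.card_eq_fintype_card, GaloisField.card 3 2 (by norm_num)]; norm_num
  obtain ⟨f⟩ := S0254.result hc
  exact Or.inl ⟨GaloisField 3 2, inferInstance, inferInstance, inferInstance, 2, le_rfl, fun _ => by omega,
    ⟨e.trans f.symm⟩⟩

theorem simpleCase : SimpleCase.{u, v} := by
  intro S _ _ hs A _ _ φ K hna hC
  rcases OddHalf.Known.classify' hna (S0000.result : IsKnownSimple' S) with h | ⟨p, hp, h⟩ | h | h
  · obtain ⟨n, hn, ⟨e⟩⟩ := h
    by_cases hn6 : n = 6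
    · subst hn6
      have : Fact (Nat.Prime 3) := ⟨Nat.prime_three⟩
      exact false_of_hasSplit (hasSplit_of_lie Nat.prime_three (isLieTypeChar_six e)) hC
    · exact hC.false_of_oddInn hna (BpSpor.Inn.OddInn.congr e (OddInn.oddInn_alt hn hn6))
  · have : Fact p.Prime := ⟨hp⟩
    exact false_of_hasSplit (hasSplit_of_lie hp h) hC
  · exact hC.false_of_oddInn hna (OddInn.oddInn_tits h)
  · exact hC.false_of_oddInn hna (OddInn.oddInn_sporadic h)

/-- **Solvability of groups with a fixed point free operator group `A` having a normal subgroup of order prime to `|G|`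
with cyclic quotient.** -/
theorem solvable {G : Type u} [Group G] [Finite G] {A : Type v} [Group A] [Finite A] {φ : A →* MulAut G}
    {K : Subgroup A} (hC : Cyc φ K) : Group.IsSolvable G :=
  solvable_of simpleCase _ G A φ K rfl hC

end Cfsg.Agent.H505.FpfCyc
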