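import Cfsg.Agent.S0799
import Cfsg.Agent.TwoFusion.SLTwoFacts
import Cfsg.Agent.ClassicalGeometry.PSL2Basic

/-!
# Numbers that are not Hall numbers: the groups `PSL(2, ℓ)`

If `m ≥ 2` is not a prime power, `m % 4 ≠ 2` and `m ∉ {12, 24, 60}` then for a suitable prime `ℓ` the
group `PSL(2, ℓ)` has order exactly divisible by `m` and has no subgroup of order `m`.
-/

set_option autoImplicit false

namespace Cfsg.Agent.H505.HallNumOne

open Subgroup

/-- The arithmetic: a factorisation `m = r s` and a prime `ℓ`. -/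
theorem exists_prime {m : ℕ} (hm : 2 ≤ m) (h1 : ¬ IsPrimePow m) (h2 : m % 4 ≠ 2) :
    ∃ r s ℓ A B : ℕ, m = r * s ∧ Odd r ∧ 1 < r ∧ 2 < s ∧ (∀ t : ℕ, t.Prime → t ∣ r → ¬ t ∣ s) ∧
      (2 ∣ s → 4 ∣ s) ∧ ℓ.Prime ∧ m < ℓ ∧ 5 < ℓ ∧ ℓ = 1 + r * A ∧ ℓ + 1 = s * B ∧
      r.Coprime A ∧ s.Coprime B := by
  set p := m.minFac with hp
  have hpp : p.Prime := Nat.minFac_prime (by omega)
  have hpm : p ∣ m := Nat.minFac_dvd m
  have hm0 : m ≠ 0 := by omega
  obtain ⟨a, r, hr, hmr⟩ := Nat.exists_eq_pow_mul_and_not_dvd hm0 p hpp.ne_one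
  set s := p ^ a with hs
  have ha : a ≠ 0 := by
    rintro rfl
    rw [hs, pow_zero, one_mul] at hmr
    exact hr (hmr ▸ hpm)
  have hr1 : r ≠ 1 := by
    rintro rfl
    apply h1
    rw [hmr, mul_one]
    exact hpp.isPrimePow.pow ha
  have hr0 : r ≠ 0 := by
    rintro rfl
    rw [mul_zero] at hmr
    exact hm0 hmr
  have hrodd : Odd r := by
    rw [← Nat.not_even_iff_odd, even_iff_two_dvd]
    intro h
    have h2m : 2 ∣ m := hmr ▸ h.mul_left s
    have : p = 2 := by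
      have h3 : p ≤ 2 := Nat.minFac_le_of_dvd le_rfl h2m
      have h4 := hpp.two_le
      omega
    rw [this] at hr
    exact hr h
  have hps : ∀ t : ℕ, t.Prime → t ∣ s → t = p := fun t ht h =>
    (Nat.prime_dvd_prime_iff_eq ht hpp).mp (ht.dvd_of_dvd_pow h)
  have hcopt : ∀ t : ℕ, t.Prime → t ∣ r → ¬ t ∣ s := by
    intro t ht h3 h4
    rw [hps t ht h4] at h3
    exact hr h3
  have hcop : r.Coprime s := Nat.coprime_of_dvd hcopt
  have h4s : 2 ∣ s → 4 ∣ s := by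
    intro h
    have hp2 : 2 = p := hps 2 Nat.prime_two h
    have h2m : 2 ∣ m := hmr ▸ h.mul_right r
    have h4m : 4 ∣ m := by omega
    rw [hmr] at h4m
    have h5 : Nat.Coprime 4 r := by
      have : Nat.Coprime 2 r := (Nat.coprime_two_left.mpr hrodd)
      exact Nat.Coprime.pow_left 2 this
    exact h5.dvd_of_dvd_mul_right h4m
  have hs1 : 2 < s := by
    have h3 : 2 ≤ s := le_trans hpp.two_le (Nat.le_self_pow ha p)
    rcases h3.lt_or_eq with h | h
    · exact h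
    · exfalso
      have := h4s ⟨1, by omega⟩
      have := Nat.le_of_dvd (by omega) this
      omega
  -- Chinese remainder
  have hcop2 : (r ^ 2).Coprime (s ^ 2) := Nat.Coprime.pow 2 2 hcop
  obtain ⟨x, hx1, hx2⟩ := Nat.chineseRemainder hcop2 (1 + r) (s ^ 2 + s - 1)
  have hxr : x.Coprime (r ^ 2) := by
    apply Nat.Coprime.pow_right
    have h3 : x ≡ 1 [MOD r] := by
      have h4 := hx1.of_dvd (dvd_pow_self r two_ne_zero)
      have h5 : 1 + r ≡ 1 [MOD r] := by simp [Nat.ModEq]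
      exact h4.trans h5
    have := h3.gcd_eq
    rw [Nat.gcd_one_left] at this
    exact this
  have hxs : x.Coprime (s ^ 2) := by
    apply Nat.Coprime.pow_right
    have h3 : x ≡ s ^ 2 + s - 1 [MOD s] := hx2.of_dvd (dvd_pow_self s two_ne_zero)
    have h4 := h3.gcd_eq
    have h5 : (s ^ 2 + s - 1).gcd s = 1 := by
      apply Nat.Coprime.gcd_eq_one
      apply Nat.coprime_of_dvd
      intro t ht h6 h7
      have h8 : t ∣ s ^ 2 + s := Dvd.dvd.add (h7.trans (dvd_pow_self s two_ne_zero)) h7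
      have h9 : t ∣ (s ^ 2 + s) - (s ^ 2 + s - 1) := Nat.dvd_sub h8 h6
      have h10 : (s ^ 2 + s) - (s ^ 2 + s - 1) = 1 := by
        have : 0 < s ^ 2 := by positivity
        omega
      rw [h10] at h9
      exact ht.one_lt.ne' (Nat.dvd_one.mp h9)
    rw [h5] at h4
    exact h4
  obtain ⟨ℓ, hℓ, hℓp, hℓx⟩ := Nat.forall_exists_prime_gt_and_modEq (m + 5 + (1 + r) + (s ^ 2 + s)) (q := r ^ 2 * s ^ 2) (a := x)
    (by positivity) (Nat.Coprime.mul_right hxr hxs)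
  have e1 : 1 + r ≡ ℓ [MOD r ^ 2] := ((hℓx.of_dvd (dvd_mul_right _ _)).trans hx1).symm
  have e2 : s ^ 2 + s - 1 ≡ ℓ [MOD s ^ 2] := ((hℓx.of_dvd (dvd_mul_left _ _)).trans hx2).symm
  have d1 : r ^ 2 ∣ ℓ - (1 + r) := (Nat.modEq_iff_dvd' (by omega)).mp e1
  have d2 : s ^ 2 ∣ ℓ - (s ^ 2 + s - 1) := (Nat.modEq_iff_dvd' (by omega)).mp e2
  obtain ⟨u, hu⟩ := d1
  obtain ⟨v, hv⟩ := d2
  refine ⟨r, s, ℓ, 1 + r * u, 1 + s * (1 + v), ?_, hrodd, by omega, hs1, hcopt, h4s, hℓp, by omega,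
    by omega, ?_, ?_, ?_, ?_⟩
  · rw [hmr, mul_comm]
  · have : ℓ = 1 + r + r ^ 2 * u := by omega
    rw [this]; ring
  · have h3 : ℓ + 1 = s ^ 2 + s + s ^ 2 * v := by
      have : 0 < s ^ 2 := by positivity
      omega
    rw [h3]; ring
  · rw [Nat.coprime_add_mul_left_right]
    exact Nat.coprime_one_right r
  · rw [Nat.coprime_add_mul_left_right]
    exact Nat.coprime_one_right s

/-- The order of the normaliser of a Sylow `ℓ`-subgroup of `PSL(2, ℓ)`. -/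
theorem card_normalizer {ℓ : ℕ} [Fact ℓ.Prime] (hℓ : 5 < ℓ)
    (P : Sylow ℓ (Matrix.ProjectiveSpecialLinearGroup (Fin 2) (ZMod ℓ))) :
    2 * Nat.card (Subgroup.normalizer ((P : Subgroup (Matrix.ProjectiveSpecialLinearGroup (Fin 2)
      (ZMod ℓ))) : Set (Matrix.ProjectiveSpecialLinearGroup (Fin 2) (ZMod ℓ)))) = ℓ * (ℓ - 1) := by
  set G := Matrix.ProjectiveSpecialLinearGroup (Fin 2) (ZMod ℓ) with hG
  have hℓp : ℓ.Prime := Fact.out
  have hodd : Odd ℓ := hℓp.odd_of_ne_two (by omega)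
  have hcard : Nat.card G * 2 = ℓ * (ℓ ^ 2 - 1) := by
    have := Cfsg.Agent.ClassicalGeometry.PSL2Basic.card_PSL2_odd (F := ZMod ℓ)
      (by rw [ZMod.card]; exact hodd)
    rw [ZMod.card] at this
    exact this
  haveI : IsSimpleGroup G := Cfsg.Agent.TwoFusion.SLTwoFacts.isSimpleGroup_psl
    (by rw [ZMod.card]; omega)
  have hn1 : Nat.card (Sylow ℓ G) ≡ 1 [MOD ℓ] := card_sylow_modEq_one ℓ G
  have hn2 : Nat.card (Sylow ℓ G) = (Subgroup.normalizer ((P : Subgroup G) : Set G)).index :=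
    P.card_eq_index_normalizer
  have hNG := (Subgroup.normalizer ((P : Subgroup G) : Set G)).card_mul_index
  rw [← hn2] at hNG
  -- the order of P
  have hdvdG : ℓ ∣ Nat.card G := by
    have h1 : ℓ ∣ Nat.card G * 2 := hcard ▸ dvd_mul_right _ _
    have h2 : Nat.Coprime ℓ 2 := (Nat.coprime_primes hℓp Nat.prime_two).mpr (by omega)
    exact h2.dvd_of_dvd_mul_right h1
  have hPne : (P : Subgroup G) ≠ ⊥ := by
    intro h
    have := P.ne_bot_of_dvd_card hdvdG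
    exact this h
  have hPdvd : ℓ ∣ Nat.card (Subgroup.normalizer ((P : Subgroup G) : Set G)) := by
    have h1 : ℓ ∣ Nat.card (P : Subgroup G) := P.dvd_card_of_dvd_card hdvdG
    exact h1.trans (Subgroup.card_dvd_of_le Subgroup.le_normalizer)
  obtain ⟨l, hl⟩ := hPdvd
  -- n = 1 + k ℓ
  have hnpos : 0 < Nat.card (Sylow ℓ G) := Nat.card_pos
  obtain ⟨k, hk⟩ : ∃ k, Nat.card (Sylow ℓ G) = 1 + ℓ * k := by
    have h3 : ℓ ∣ Nat.card (Sylow ℓ G) - 1 := (Nat.modEq_iff_dvd' hnpos).mp hn1.symm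
    obtain ⟨k, hk⟩ := h3
    exact ⟨k, by omega⟩
  rw [hl, hk] at hNG
  have hℓ0 : 0 < ℓ := hℓp.pos
  -- 2 l (1 + ℓ k) = ℓ² - 1
  have h4 : 2 * l * (1 + ℓ * k) = ℓ ^ 2 - 1 := by
    have h5 : ℓ * (2 * l * (1 + ℓ * k)) = ℓ * (ℓ ^ 2 - 1) := by
      rw [← hcard, ← hNG]; ring
    exact Nat.eq_of_mul_eq_mul_left hℓ0 h5
  have hsq : 1 ≤ ℓ ^ 2 := Nat.one_le_pow _ _ hℓ0
  -- k ≠ 0
  have hk0 : k ≠ 0 := by
    rintro rfl
    rw [mul_zero, add_zero] at hk
    have hPn : (P : Subgroup G).Normal := by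
      rw [← Subgroup.normalizer_eq_top_iff]
      apply Subgroup.index_eq_one.mp
      rw [← hn2, hk]
    rcases hPn.eq_bot_or_eq_top with h | h
    · exact hPne h
    · have h5 : Nat.card G = ℓ ^ (Nat.card G).factorization ℓ := by
        have := P.card_eq_multiplicity
        rw [h, Subgroup.card_top] at this
        exact this
      -- 3 divides the order
      have h6 : ∃ r, r.Prime ∧ r ≠ ℓ ∧ r ∣ Nat.card G := by
        refine ⟨2, Nat.prime_two, by omega, ?_⟩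
        obtain ⟨j, hj⟩ := hodd
        have h7 : ℓ * (ℓ ^ 2 - 1) = 2 * (2 * (ℓ * (j * (j + 1)))) := by
          have : ℓ ^ 2 - 1 = 4 * (j * (j + 1)) := by
            rw [hj]
            have : (2 * j + 1) ^ 2 = 4 * (j * (j + 1)) + 1 := by ring
            omega
          rw [this]; ring
        rw [h7] at hcard
        exact ⟨ℓ * (j * (j + 1)), by omega⟩
      obtain ⟨r, hr, hrℓ, hrG⟩ := h6
      rw [h5] at hrG
      exact hrℓ ((Nat.prime_dvd_prime_iff_eq hr hℓp).mp (hr.dvd_of_dvd_pow hrG))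
  -- 2 l + 1 = j ℓ
  have h8 : ℓ ∣ 2 * l + 1 := by
    have h9 : 2 * l + 1 + ℓ * (2 * l * k) = ℓ ^ 2 := by
      have : 2 * l * (1 + ℓ * k) = 2 * l + ℓ * (2 * l * k) := by ring
      omega
    have h10 : ℓ ∣ 2 * l + 1 + ℓ * (2 * l * k) := by rw [h9]; exact dvd_pow_self ℓ two_ne_zero
    exact (Nat.dvd_add_left (dvd_mul_right _ _)).mp h10
  obtain ⟨j, hj⟩ := h8
  have hj0 : j ≠ 0 := by rintro rfl; omega
  -- (j ℓ - 1)(1 + k ℓ) = ℓ² - 1
  have h11 : (j : ℤ) + j * k * ℓ - k = ℓ := by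
    have h12 : (2 * (l : ℤ)) = ℓ * j - 1 := by
      have : (2 * l + 1 : ℤ) = ℓ * j := by exact_mod_cast hj
      linarith
    have h13 : (2 * (l : ℤ)) * (1 + ℓ * k) = ℓ ^ 2 - 1 := by
      have := congrArg (fun x : ℕ => (x : ℤ)) h4
      rw [Nat.cast_sub hsq] at this
      push_cast at this
      exact this
    rw [h12] at h13
    have h14 : (ℓ : ℤ) * (j + j * k * ℓ - k) = ℓ * ℓ := by ring_nf at h13 ⊢; linarith
    exact mul_left_cancel₀ (by positivity) h14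
  have hjk : j = 1 ∧ k = 1 := by
    have hj1 : (1 : ℤ) ≤ j := by exact_mod_cast Nat.one_le_iff_ne_zero.mpr hj0
    have hk1 : (1 : ℤ) ≤ k := by exact_mod_cast Nat.one_le_iff_ne_zero.mpr hk0
    have hℓ5 : (6 : ℤ) ≤ ℓ := by exact_mod_cast hℓ
    -- j k ≤ 1
    have hle : (k : ℤ) ≤ j * k := by nlinarith
    by_cases hk2 : k = 1
    · subst hk2
      refine ⟨?_, rfl⟩
      push_cast at h11
      have : ((j : ℤ) - 1) * (ℓ + 1) = 0 := by linarith
      rcases mul_eq_zero.mp this with h | h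
      · have : (j : ℤ) = 1 := by linarith
        exact_mod_cast this
      · exfalso; linarith
    · exfalso
      have hk3 : (2 : ℤ) ≤ k := by
        have : 2 ≤ k := by omega
        exact_mod_cast this
      have h15 : (j : ℤ) * k * ℓ ≥ k * ℓ := by nlinarith
      nlinarith
  rw [hl]
  have : 2 * l = ℓ - 1 := by rw [hjk.1] at hj; omega
  rw [← this]; ring

theorem not_hall {m : ℕ} (hm : 2 ≤ m) (h1 : ¬ IsPrimePow m) (h2 : m % 4 ≠ 2)
    (h12 : m ≠ 12) (h24 : m ≠ 24) (h60 : m ≠ 60) :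
    ∃ (G : Type) (_ : Group G) (_ : Finite G), m ∣ Nat.card G ∧ m.Coprime (Nat.card G / m) ∧
      ∀ H : Subgroup G, Nat.card H ≠ m := by
  obtain ⟨r, s, ℓ, A, B, hmrs, hrodd, hr1, hs2, hrs, h4s, hℓp, hmℓ, hℓ5, hA, hB, hrA, hsB⟩ :=
    exists_prime hm h1 h2
  haveI : Fact ℓ.Prime := ⟨hℓp⟩
  have hoddℓ : Odd ℓ := hℓp.odd_of_ne_two (by omega)
  set G := Matrix.ProjectiveSpecialLinearGroup (Fin 2) (ZMod ℓ) with hG
  have hcard : Nat.card G * 2 = ℓ * (ℓ ^ 2 - 1) := by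
    have := Cfsg.Agent.ClassicalGeometry.PSL2Basic.card_PSL2_odd (F := ZMod ℓ)
      (by rw [ZMod.card]; exact hoddℓ)
    rw [ZMod.card] at this
    exact this
  have hsq : ℓ ^ 2 - 1 = (ℓ - 1) * (ℓ + 1) := by
    have : ℓ ^ 2 - 1 ^ 2 = (ℓ + 1) * (ℓ - 1) := Nat.sq_sub_sq ℓ 1
    rw [one_pow] at this
    rw [this]; ring
  have hA' : ℓ - 1 = r * A := by omega
  -- A is even
  have hAeven : 2 ∣ A := by
    have h3 : 2 ∣ ℓ - 1 := by
      obtain ⟨j, hj⟩ := hoddℓ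
      exact ⟨j, by omega⟩
    rw [hA'] at h3
    exact (Nat.Coprime.dvd_of_dvd_mul_left (Nat.coprime_two_left.mpr hrodd) h3)
  obtain ⟨A', hA2⟩ := hAeven
  have hcard2 : Nat.card G = m * (ℓ * A' * B) := by
    have : Nat.card G * 2 = m * (ℓ * A' * B) * 2 := by
      rw [hcard, hsq, hA', hB, hA2, hmrs]; ring
    omega
  have hm0 : 0 < m := by omega
  have hdiv : Nat.card G / m = ℓ * A' * B := by
    rw [hcard2]; exact Nat.mul_div_cancel_left _ hm0
  -- common prime divisors of ℓ - 1 and ℓ + 1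
  have hcom : ∀ t : ℕ, t.Prime → t ∣ ℓ - 1 → t ∣ ℓ + 1 → t = 2 := by
    intro t ht h3 h4
    have h5 : t ∣ (ℓ + 1) - (ℓ - 1) := Nat.dvd_sub h4 h3
    have h6 : (ℓ + 1) - (ℓ - 1) = 2 := by omega
    rw [h6] at h5
    exact (Nat.prime_dvd_prime_iff_eq ht Nat.prime_two).mp h5
  have hsodd : ∀ t : ℕ, t.Prime → t ∣ s → t ∣ ℓ + 1 := fun t _ h => by
    rw [hB]; exact h.mul_right B
  have hrdvd : ∀ t : ℕ, t.Prime → t ∣ r → t ∣ ℓ - 1 := fun t _ h => by
    rw [hA']; exact h.mul_right A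
  have hcop : m.Coprime (ℓ * A' * B) := by
    apply Nat.coprime_of_dvd
    intro t ht htm htd
    rw [hmrs] at htm
    rcases (ht.dvd_mul).mp htm with htr | hts
    · have ht2 : t ≠ 2 := by
        rintro rfl
        exact (Nat.not_even_iff_odd.mpr hrodd) (even_iff_two_dvd.mpr htr)
      rcases (ht.dvd_mul).mp htd with h3 | h3
      · rcases (ht.dvd_mul).mp h3 with h4 | h4
        · have h5 := (Nat.prime_dvd_prime_iff_eq ht hℓp).mp h4
          have h6 : t ≤ m := Nat.le_of_dvd hm0 (hmrs ▸ htr.mul_right s)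
          omega
        · have h5 : t ∣ A := hA2 ▸ h4.mul_left 2
          have h6 := Nat.dvd_gcd htr h5
          rw [hrA] at h6
          exact ht.one_lt.ne' (Nat.dvd_one.mp h6)
      · exact ht2 (hcom t ht (hrdvd t ht htr) (hB ▸ h3.mul_left s))
    · rcases (ht.dvd_mul).mp htd with h3 | h3
      · rcases (ht.dvd_mul).mp h3 with h4 | h4
        · have h5 := (Nat.prime_dvd_prime_iff_eq ht hℓp).mp h4
          have h6 : t ≤ m := Nat.le_of_dvd hm0 (hmrs ▸ hts.mul_left r)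
          omega
        · have h5 : t ∣ ℓ - 1 := by
            rw [hA', hA2]; exact (h4.mul_left 2).mul_left r
          have h6 := hcom t ht h5 (hsodd t ht hts)
          subst h6
          -- 4 divides ℓ - 1 and ℓ + 1
          obtain ⟨a, ha⟩ := h4
          obtain ⟨b, hb⟩ := h4s hts
          have h7 : ℓ - 1 = 4 * (r * a) := by rw [hA', hA2, ha]; ring
          have h8 : ℓ + 1 = 4 * (b * B) := by rw [hB, hb]; ring
          omega
      · have h6 := Nat.dvd_gcd hts h3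
        rw [hsB] at h6
        exact ht.one_lt.ne' (Nat.dvd_one.mp h6)
  have hgcd2 : Nat.gcd 2 (ℓ - 1) = 2 := by
    apply Nat.gcd_eq_left
    obtain ⟨j, hj⟩ := hoddℓ
    exact ⟨j, by omega⟩
  -- m divides neither ℓ + 1 nor ℓ - 1
  have hno1 : ¬ m ∣ ℓ + 1 := by
    intro h
    obtain ⟨t, ht, htr⟩ := Nat.exists_prime_and_dvd (n := r) (by omega)
    have h3 : t ∣ ℓ + 1 := (htr.trans (hmrs ▸ dvd_mul_right r s)).trans h
    have h4 := hcom t ht (hrdvd t ht htr) h3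
    subst h4
    exact (Nat.not_even_iff_odd.mpr hrodd) (even_iff_two_dvd.mpr htr)
  have hno2 : ¬ m ∣ ℓ - 1 := by
    intro h
    have hsl : s ∣ ℓ - 1 := (hmrs ▸ dvd_mul_left s r : s ∣ m).trans h
    have hsl2 : s ∣ ℓ + 1 := hB ▸ dvd_mul_right s B
    have h5 : s ∣ (ℓ + 1) - (ℓ - 1) := Nat.dvd_sub hsl2 hsl
    have h6 : (ℓ + 1) - (ℓ - 1) = 2 := by omega
    rw [h6] at h5
    have := Nat.le_of_dvd (by norm_num) h5
    omega
  refine ⟨G, inferInstance, inferInstance, ⟨_, hcard2⟩, by rw [hdiv]; exact hcop, ?_⟩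
  intro H hH
  have hℓm : m.Coprime ℓ := (Nat.coprime_comm.mp ((Nat.Prime.coprime_iff_not_dvd hℓp).mpr
    (fun h => absurd (Nat.le_of_dvd hm0 h) (by omega))))
  have hkk : ∀ k : ℕ, (k ∣ (ℓ + 1) / 2 ∨ k ∣ (ℓ - 1) / 2) → (m = k ∨ m = 2 * k) → False := by
    intro k hk hmk
    obtain ⟨j, hj⟩ := hoddℓ
    have e1 : 2 * ((ℓ + 1) / 2) = ℓ + 1 := by omega
    have e2 : 2 * ((ℓ - 1) / 2) = ℓ - 1 := by omega
    have hmk' : m ∣ 2 * k := by
      rcases hmk with h | h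
      · rw [h]; exact dvd_mul_left k 2
      · rw [h]
    rcases hk with h | h
    · apply hno1
      rw [← e1]
      exact hmk'.trans (Nat.mul_dvd_mul_left 2 h)
    · apply hno2
      rw [← e2]
      exact hmk'.trans (Nat.mul_dvd_mul_left 2 h)
  rcases Cfsg.Agent.S0799.result (F := ZMod ℓ) (ZMod.card ℓ) ℓ H with
    ⟨k, hk, hk'⟩ | ⟨P, K, hK, ⟨e⟩⟩ | ⟨⟨e⟩⟩ | ⟨⟨e⟩⟩ | ⟨⟨e⟩⟩ | ⟨K, _, _, j, hKj, hK⟩
  · rw [hgcd2] at hk
    apply hkk k hk
    rcases hk' with ⟨-, h⟩ | ⟨⟨e⟩⟩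
    · left; rw [← hH, h]
    · right
      rw [← hH, Nat.card_congr e.toEquiv, DihedralGroup.nat_card]
  · have h3 : m ∣ Nat.card (Subgroup.normalizer ((P : Subgroup G) : Set G)) := by
      rw [← hH, Nat.card_congr e.toEquiv]
      exact Subgroup.card_dvd_of_le hK
    have h4 := card_normalizer hℓ5 P
    have h5 : m ∣ ℓ * (ℓ - 1) := by rw [← h4]; exact h3.mul_left 2
    exact hno2 (hℓm.dvd_of_dvd_mul_left h5)
  · apply h12
    rw [← hH, Nat.card_congr e.toEquiv, nat_card_alternatingGroup]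
    simp [Nat.factorial]
  · apply h24
    rw [← hH, Nat.card_congr e.toEquiv, Nat.card_perm]
    simp [Nat.factorial]
  · apply h60
    rw [← hH, Nat.card_congr e.toEquiv, nat_card_alternatingGroup]
    simp [Nat.factorial]
  · -- subfield
    have hKc : Fintype.card K = ℓ := by
      have h3 : 1 < Fintype.card K := Fintype.one_lt_card
      have hj0 : j ≠ 0 := by
        rintro rfl
        rw [pow_zero] at hKj
        omega
      have h4 : Fintype.card K ∣ ℓ := by rw [← hKj]; exact dvd_pow_self _ hj0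
      rcases (Nat.dvd_prime hℓp).mp h4 with h | h
      · omega
      · exact h
    have hℓH : ℓ ∣ m := by
      rcases hK with ⟨⟨e⟩⟩ | ⟨⟨e⟩⟩
      · have h3 := Cfsg.Agent.ClassicalGeometry.PSL2Basic.card_PSL2_odd (F := K)
          (by rw [hKc]; exact hoddℓ)
        rw [← Nat.card_congr e.toEquiv, hH, hKc] at h3
        have h4 : ℓ ∣ m * 2 := by rw [h3]; exact dvd_mul_right _ _
        have h5 : Nat.Coprime ℓ 2 := (Nat.coprime_primes hℓp Nat.prime_two).mpr (by omega)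
        exact h5.dvd_of_dvd_mul_right h4
      · have h3 := Cfsg.Agent.ClassicalGeometry.PSL2Basic.card_PGL2 (F := K)
        rw [← Nat.card_congr e.toEquiv, hH, hKc] at h3
        rw [h3]; exact dvd_mul_right _ _
    have := Nat.le_of_dvd hm0 hℓH
    omega

end Cfsg.Agent.H505.HallNumOne
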