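import Mathlib
import Cfsg.Agent.S0071

/-!
# Groups with Sylow 2-subgroups of order at most 8 and no normal 2-complement
-/

set_option autoImplicit false

namespace Cfsg.Agent.H505.TwoLocal

open Subgroup

/-- fixed points of an automorphism of prime order -/
theorem fixed_modEq {Q : Type*} [Group Q] [Finite Q] (β : MulAut Q) {r : ℕ} (hr : r.Prime)
    (hβ : orderOf β = r) :
    ∃ F : Subgroup Q, (∀ x, x ∈ F ↔ β x = x) ∧ Nat.card Q ≡ Nat.card F [MOD r] ∧ F ≠ ⊤ := by
  classical
  haveI : Fact r.Prime := ⟨hr⟩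
  let F : Subgroup Q :=
    { carrier := {x | β x = x}
      mul_mem' := fun {a b} ha hb => by
        change β (a * b) = a * b
        rw [map_mul, show β a = a from ha, show β b = b from hb]
      one_mem' := map_one β
      inv_mem' := fun {a} ha => by
        change β a⁻¹ = a⁻¹
        rw [map_inv, show β a = a from ha] }
  have hF : ∀ x, x ∈ F ↔ β x = x := fun _ => Iff.rfl
  refine ⟨F, hF, ?_, ?_⟩
  · have hP : IsPGroup r (zpowers β) := by
      apply IsPGroup.of_card (n := 1)
      rw [Nat.card_zpowers, hβ, pow_one]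
    have h1 := hP.card_modEq_card_fixedPoints Q
    have h2 : MulAction.fixedPoints (zpowers β) Q = (F : Set Q) := by
      ext x
      rw [MulAction.mem_fixedPoints]
      constructor
      · intro h
        have := h ⟨β, mem_zpowers β⟩
        exact this
      · intro h m
        obtain ⟨m, hm⟩ := m
        obtain ⟨i, rfl⟩ := mem_zpowers_iff.mp hm
        have h3 : β ∈ MulAction.stabilizer (MulAut Q) x := h
        have h4 : β ^ i ∈ MulAction.stabilizer (MulAut Q) x := Subgroup.zpow_mem _ h3 i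
        exact h4
    rw [h2] at h1
    exact h1
  · intro h
    have : β = 1 := by
      ext x
      have : x ∈ F := by rw [h]; trivial
      exact this
    rw [this, orderOf_one] at hβ
    exact hr.one_lt.ne hβ

/-- An automorphism of order 7 of a group of order 8 permutes the nonidentity elements transitively. -/
theorem transitive_of_seven {Q : Type*} [Group Q] [Finite Q] (hQ : Nat.card Q = 8) (β : MulAut Q)
    (hβ : orderOf β = 7) (x y : Q) (hx : x ≠ 1) (hy : y ≠ 1) : ∃ i : ℕ, (β ^ i) x = y := by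
  classical
  haveI : Fact (Nat.Prime 7) := ⟨by norm_num⟩
  obtain ⟨F, hF, hmod, hne⟩ := fixed_modEq β (by norm_num : Nat.Prime 7) hβ
  have hFd : Nat.card F ∣ 8 := hQ ▸ F.card_subgroup_dvd_card
  have hF8 : Nat.card F ≠ 8 := by
    intro h
    exact hne (Subgroup.eq_top_of_card_eq F (by rw [h, hQ]))
  have hF1 : Nat.card F = 1 := by
    rw [hQ] at hmod
    have h1 : Nat.card F ≤ 8 := Nat.le_of_dvd (by norm_num) hFd
    unfold Nat.ModEq at hmod
    interval_cases h : Nat.card F <;> simp_all
  have hxF : x ∉ F := by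
    intro h
    have h1 : F = ⊥ := Subgroup.eq_bot_of_card_eq F hF1
    rw [h1, mem_bot] at h
    exact hx h
  -- the orbit of x under ⟨β⟩
  have hcz : Nat.card (zpowers β) = 7 := by rw [Nat.card_zpowers, hβ]
  have horb : Nat.card (MulAction.orbit (zpowers β) x) = 7 := by
    have h1 := MulAction.index_stabilizer (zpowers β) x
    have h2 : Nat.card (MulAction.stabilizer (zpowers β) x) ∣ 7 := by
      rw [← hcz]; exact Subgroup.card_subgroup_dvd_card _
    rcases (Nat.dvd_prime (by norm_num)).mp h2 with h3 | h3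
    · have h4 := (MulAction.stabilizer (zpowers β) x).card_mul_index
      rw [h3, one_mul, hcz] at h4
      rw [← h4]
      exact h1.symm
    · exfalso
      apply hxF
      rw [hF]
      have h4 : MulAction.stabilizer (zpowers β) x = ⊤ :=
        Subgroup.eq_top_of_card_eq _ (by rw [h3, hcz])
      have h5 : (⟨β, mem_zpowers β⟩ : zpowers β) ∈ MulAction.stabilizer (zpowers β) x := by
        rw [h4]; trivial
      exact h5
  have hsub : MulAction.orbit (zpowers β) x ⊆ {z : Q | z ≠ 1} := by
    rintro _ ⟨m, rfl⟩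
    intro h
    apply hx
    obtain ⟨m, hm⟩ := m
    have : (m : MulAut Q) x = 1 := h
    rwa [map_eq_one_iff m m.injective] at this
  have hcard7 : Nat.card {z : Q | z ≠ 1} = 7 := by
    have h1 : Set.ncard ({z : Q | z ≠ 1}) = 7 := by
      have h2 : ({z : Q | z ≠ 1}) = ({1} : Set Q)ᶜ := by ext z; simp
      have h3 := Set.ncard_add_ncard_compl ({1} : Set Q)
      rw [Set.ncard_singleton, hQ] at h3
      rw [h2]; omega
    exact h1
  have heq : MulAction.orbit (zpowers β) x = {z : Q | z ≠ 1} := by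
    apply Set.eq_of_subset_of_ncard_le hsub
    have h1 : Set.ncard ({z : Q | z ≠ 1}) = 7 := hcard7
    have h2 : Set.ncard (MulAction.orbit (zpowers β) x) = 7 := horb
    rw [h1, h2]
  have hyo : y ∈ MulAction.orbit (zpowers β) x := by rw [heq]; exact hy
  obtain ⟨⟨m, hm⟩, hmx⟩ := hyo
  have hm' : m ∈ Submonoid.powers β := by
    rwa [mem_powers_iff_mem_zpowers]
  obtain ⟨i, rfl⟩ := hm'
  exact ⟨i, hmx⟩

/-- **Local alternatives** for a group with Sylow 2-subgroups of order at most 8 and no normal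
2-complement. -/
theorem alternatives {G : Type*} [Group G] [Finite G] (S : Sylow 2 G) (h16 : ¬ 16 ∣ Nat.card G)
    (hnc : ¬ ∃ N : Subgroup G, N.Normal ∧ N.IsComplement' (S : Subgroup G)) :
    (∃ Q : Subgroup G, Q ≤ S ∧ 4 ∣ Nat.card Q ∧
        (S : Subgroup G) ≤ Subgroup.normalizer (Q : Set G) ∧
        3 ∣ Nat.card (Subgroup.normalizer (Q : Set G))) ∨
      (Nat.card (S : Subgroup G) = 8 ∧ ∀ x ∈ (S : Subgroup G), ∀ y ∈ (S : Subgroup G), x ≠ 1 → y ≠ 1 →
        ∃ n ∈ Subgroup.normalizer ((S : Subgroup G) : Set G), n * x * n⁻¹ = y) := by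
  classical
  haveI : Fact (Nat.Prime 2) := ⟨Nat.prime_two⟩
  rw [Cfsg.Agent.S0071.result S] at hnc
  push Not at hnc
  obtain ⟨Q, hQS, g, hgN, hgodd, hgC⟩ := hnc
  -- the order of S divides 8
  have hS8 : Nat.card (S : Subgroup G) ∣ 8 := by
    obtain ⟨k, hk⟩ := IsPGroup.iff_card.mp S.isPGroup'
    have hk3 : k ≤ 3 := by
      by_contra h
      apply h16
      have h1 : 2 ^ 4 ∣ Nat.card (S : Subgroup G) := by rw [hk]; exact pow_dvd_pow 2 (by omega)
      exact h1.trans (S : Subgroup G).card_subgroup_dvd_card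
    rw [hk]
    exact pow_dvd_pow 2 hk3
  have hQS' : Nat.card Q ∣ Nat.card (S : Subgroup G) := Subgroup.card_dvd_of_le hQS
  have hQ8 : Nat.card Q ∣ 8 := hQS'.trans hS8
  -- the automorphism
  set α : MulAut Q := Q.normalizerMonoidHom ⟨g, hgN⟩ with hα
  have hαapp : ∀ x : Q, ((α x : Q) : G) = g * x * g⁻¹ := fun x => rfl
  have hαne : α ≠ 1 := by
    intro h
    apply hgC
    rw [mem_centralizer_iff]
    intro x hx
    have h1 : ((α ⟨x, hx⟩ : Q) : G) = x := by rw [h]; rfl
    rw [hαapp] at h1
    have h2 : g * x * g⁻¹ = x := h1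
    exact (mul_inv_eq_iff_eq_mul.mp h2).symm
  have hαord : orderOf α ∣ orderOf g := by
    have h1 := orderOf_map_dvd Q.normalizerMonoidHom (⟨g, hgN⟩ : Subgroup.normalizer (Q : Set G))
    rw [Subgroup.orderOf_mk] at h1
    exact h1
  obtain ⟨r, hr, hrα⟩ := Nat.exists_prime_and_dvd (n := orderOf α)
    (fun h => hαne (orderOf_eq_one_iff.mp h))
  have hrg : r ∣ orderOf g := hrα.trans hαord
  have hr2 : r ≠ 2 := by
    rintro rfl
    have h1 := Nat.dvd_gcd hrg (dvd_refl 2)
    rw [hgodd] at h1
    norm_num at h1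
  obtain ⟨c, hc⟩ := hrα
  have hc0 : c ≠ 0 := by
    rintro rfl
    rw [mul_zero] at hc
    exact (orderOf_pos α).ne' hc
  have hβ : orderOf (α ^ c) = r := by
    rw [orderOf_pow_of_dvd hc0 ⟨r, by rw [hc]; ring⟩, hc]
    exact Nat.mul_div_cancel _ (Nat.pos_of_ne_zero hc0)
  obtain ⟨F, hF, hmod, hne⟩ := fixed_modEq (α ^ c) hr hβ
  have hFd : Nat.card F ∣ Nat.card Q := F.card_subgroup_dvd_card
  have hFne : Nat.card F ≠ Nat.card Q := fun h => hne (Subgroup.eq_top_of_card_eq F h)
  have hQ8' : Nat.card Q = 1 ∨ Nat.card Q = 2 ∨ Nat.card Q = 4 ∨ Nat.card Q = 8 := by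
    have : Nat.card Q ∈ Nat.divisors 8 := Nat.mem_divisors.mpr ⟨hQ8, by norm_num⟩
    have h8 : Nat.divisors 8 = {1, 2, 4, 8} := by decide
    rw [h8] at this
    simpa using this
  have hFle : Nat.card F ≤ Nat.card Q := Nat.le_of_dvd Nat.card_pos hFd
  have hFpos : 0 < Nat.card F := Nat.card_pos
  -- r divides card Q - card F
  have hrd : r ∣ Nat.card Q - Nat.card F := (Nat.modEq_iff_dvd' hFle).mp hmod.symm
  have hcases : 4 ∣ Nat.card Q ∧ (r = 3 ∨ (r = 7 ∧ Nat.card Q = 8)) := by
    rcases hQ8' with h | h | h | h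
    · rw [h] at hFle hFne; omega
    · rw [h] at hFle hFne hrd
      have h1 : Nat.card F = 1 := by omega
      rw [h1] at hrd
      exact absurd (Nat.dvd_one.mp hrd) hr.ne_one
    · rw [h] at hFle hFne hrd hFd
      have h1 : Nat.card F = 1 ∨ Nat.card F = 2 := by
        have h2 : Nat.card F < 4 := by omega
        interval_cases h3 : Nat.card F
        · left; rfl
        · right; rfl
        · omega
      refine ⟨by rw [h], Or.inl ?_⟩
      rcases h1 with h1 | h1
      · rw [h1] at hrd
        exact (Nat.prime_dvd_prime_iff_eq hr (by norm_num)).mp hrd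
      · rw [h1] at hrd
        exact absurd ((Nat.prime_dvd_prime_iff_eq hr (by norm_num)).mp hrd) hr2
    · rw [h] at hFle hFne hrd hFd
      have h1 : Nat.card F = 1 ∨ Nat.card F = 2 ∨ Nat.card F = 4 := by
        have h2 : Nat.card F < 8 := by omega
        interval_cases h3 : Nat.card F <;> omega
      refine ⟨by rw [h]; norm_num, ?_⟩
      rcases h1 with h1 | h1 | h1
      · rw [h1] at hrd
        exact Or.inr ⟨(Nat.prime_dvd_prime_iff_eq hr (by norm_num)).mp hrd, h⟩
      · rw [h1] at hrd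
        have h4 : r ∣ 2 * 3 := hrd
        rcases (hr.dvd_mul).mp h4 with h5 | h5
        · exact absurd ((Nat.prime_dvd_prime_iff_eq hr (by norm_num)).mp h5) hr2
        · exact Or.inl ((Nat.prime_dvd_prime_iff_eq hr (by norm_num)).mp h5)
      · rw [h1] at hrd
        have h4 : r ∣ 2 ^ 2 := hrd
        exact absurd ((Nat.prime_dvd_prime_iff_eq hr (by norm_num)).mp (hr.dvd_of_dvd_pow h4)) hr2
  obtain ⟨h4Q, hrr⟩ := hcases
  rcases hrr with rfl | ⟨rfl, hQc⟩
  · left
    refine ⟨Q, hQS, h4Q, ?_, ?_⟩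
    · rw [← Subgroup.normal_subgroupOf_iff_le_normalizer hQS]
      have h1 : Nat.card (Q.subgroupOf S) = Nat.card Q :=
        Nat.card_congr (Subgroup.subgroupOfEquivOfLe hQS).toEquiv
      have h2 := (Q.subgroupOf S).card_mul_index
      rw [h1] at h2
      have h3 : (Q.subgroupOf (S : Subgroup G)).index ∣ 2 := by
        have h5 : Nat.card Q * (Q.subgroupOf (S : Subgroup G)).index ∣ 8 := by rw [h2]; exact hS8
        obtain ⟨d, hd⟩ := h4Q
        have hd0 : 0 < d := by
          rcases Nat.eq_zero_or_pos d with h | h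
          · rw [h, mul_zero] at hd
            exact absurd hd (Nat.card_pos (α := Q)).ne'
          · exact h
        obtain ⟨e, he⟩ := h5
        have h6 : d * (Q.subgroupOf (S : Subgroup G)).index * e = 2 := by
          have : 4 * (d * (Q.subgroupOf (S : Subgroup G)).index * e) = 4 * 2 := by
            rw [hd] at he
            rw [show (4 * 2 : ℕ) = 8 from rfl, he]; ring
          omega
        exact ⟨d * e, h6.symm.trans (by ring)⟩
      rcases (Nat.dvd_prime Nat.prime_two).mp h3 with h5 | h5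
      · rw [Subgroup.index_eq_one.mp h5]; infer_instance
      · exact Subgroup.normal_of_index_eq_two h5
    · exact hrg.trans (Subgroup.orderOf_dvd_natCard _ hgN)
  · right
    have hSQ : Q = (S : Subgroup G) := by
      apply Subgroup.eq_of_le_of_card_ge hQS
      rw [hQc]
      exact Nat.le_of_dvd (by norm_num) hS8
    have hSc : Nat.card (S : Subgroup G) = 8 := by rw [← hSQ, hQc]
    refine ⟨hSc, ?_⟩
    intro x hx y hy hx1 hy1
    rw [← hSQ] at hx hy
    obtain ⟨i, hi⟩ := transitive_of_seven hQc (α ^ c) hβ ⟨x, hx⟩ ⟨y, hy⟩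
      (fun h => hx1 (congrArg Subtype.val h)) (fun h => hy1 (congrArg Subtype.val h))
    have hgm : g ^ (c * i) ∈ Subgroup.normalizer (Q : Set G) := Subgroup.pow_mem _ hgN _
    refine ⟨g ^ (c * i), by rw [← hSQ]; exact hgm, ?_⟩
    have h1 : (α ^ c) ^ i = Q.normalizerMonoidHom ⟨g ^ (c * i), hgm⟩ := by
      rw [← pow_mul, hα, ← map_pow]
      rfl
    rw [h1] at hi
    exact congrArg Subtype.val hi

end Cfsg.Agent.H505.TwoLocal
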